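import Cfsg.Agent.H180.MElBig
import Cfsg.Agent.H729.PairMathieu

/-!
# `M24` has no elements of order 22, 28, 30, `M22` has no elements of order 21 (helper870)
-/

set_option autoImplicit false

namespace Cfsg.Agent.H870.Der.MTF

open Cfsg Equiv.Perm Cfsg.Agent.H180.MEl
open Cfsg.Agent.H866.InvolType (fx)

theorem no30 (z : M24) : orderOf z ≠ 30 := by
  intro hz
  have hz' : orderOf (z : Equiv.Perm GolayPt) = 30 := by rw [Subgroup.orderOf_coe, hz]
  set w : Equiv.Perm GolayPt := (z : Equiv.Perm GolayPt) with hw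
  have m5 : w ^ 6 ∈ M24 := pow_mem z.2 6
  have m3 : w ^ 10 ∈ M24 := pow_mem z.2 10
  have m2 : w ^ 15 ∈ M24 := pow_mem z.2 15
  have o5 : orderOf (w ^ 6) = 5 := by rw [orderOf_pow_of_dvd (by norm_num) (by rw [hz']; norm_num), hz']
  have o3 : orderOf (w ^ 10) = 3 := by rw [orderOf_pow_of_dvd (by norm_num) (by rw [hz']; norm_num), hz']
  have o2 : orderOf (w ^ 15) = 2 := by rw [orderOf_pow_of_dvd (by norm_num) (by rw [hz']; norm_num), hz']
  have c53 : Commute (w ^ 6) (w ^ 10) := (Commute.refl w).pow_pow 6 10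
  have c25 : Commute (w ^ 15) (w ^ 6) := (Commute.refl w).pow_pow 15 6
  have c23 : Commute (w ^ 15) (w ^ 10) := (Commute.refl w).pow_pow 15 10
  have f5 := fx5 m5 o5
  have f3 := fx3 m3 o3
  have f2 := fx_of_five m2 m5 o2 o5 c25
  have h3 := card_Fx_comm (p := 3) (x := w ^ 10) (y := w ^ 6) (by rw [← o3, pow_orderOf_eq_one]) c53.symm
  have h5 := card_Fx_comm (p := 5) (x := w ^ 6) (y := w ^ 10) (by rw [← o5, pow_orderOf_eq_one]) c53
  rw [Finset.inter_comm] at h3
  have h6 : (Fx (w ^ 6) ∩ Fx (w ^ 10)).card ≤ fx (w ^ 6) := Finset.card_le_card Finset.inter_subset_left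
  have h1 : (Fx (w ^ 6) ∩ Fx (w ^ 10)).card = 1 := by
    rw [f5] at h3 h6
    unfold Nat.ModEq at h3 h5
    rcases f3 with f3 | f3 <;> rw [f3] at h5 <;> omega
  have h2 := card_mod (p := 2) (x := w ^ 15) (by rw [← o2, pow_orderOf_eq_one]) (Fx (w ^ 6) ∩ Fx (w ^ 10)) (by
    intro q hq
    rw [Finset.mem_inter, mem_Fx, mem_Fx] at hq ⊢
    constructor
    · calc (w ^ 6) ((w ^ 15) q) = (w ^ 15) ((w ^ 6) q) := congrArg (fun f : Equiv.Perm GolayPt => f q) c25.symm.eq
        _ = _ := by rw [hq.1]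
    · calc (w ^ 10) ((w ^ 15) q) = (w ^ 15) ((w ^ 10) q) := congrArg (fun f : Equiv.Perm GolayPt => f q) c23.symm.eq
        _ = _ := by rw [hq.2])
  rw [← card_Fx, Finset.card_eq_zero] at f2
  rw [f2, Finset.inter_empty, Finset.card_empty, h1] at h2
  exact absurd h2 (by decide)

theorem no28 (z : M24) : orderOf z ≠ 28 := by
  intro hz
  have hz' : orderOf (z : Equiv.Perm GolayPt) = 28 := by rw [Subgroup.orderOf_coe, hz]
  set w : Equiv.Perm GolayPt := (z : Equiv.Perm GolayPt) with hw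
  have m7 : w ^ 4 ∈ M24 := pow_mem z.2 4
  have m2 : w ^ 14 ∈ M24 := pow_mem z.2 14
  have o7 : orderOf (w ^ 4) = 7 := by rw [orderOf_pow_of_dvd (by norm_num) (by rw [hz']; norm_num), hz']
  have o2 : orderOf (w ^ 14) = 2 := by rw [orderOf_pow_of_dvd (by norm_num) (by rw [hz']; norm_num), hz']
  have c27 : Commute (w ^ 14) (w ^ 4) := (Commute.refl w).pow_pow 14 4
  have f7 := fx7 m7 o7
  have f2 := fx2 m2 o2
  have h2 := card_Fx_comm (p := 2) (x := w ^ 14) (y := w ^ 4) (by rw [← o2, pow_orderOf_eq_one]) c27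
  have h7 := card_Fx_comm (p := 7) (x := w ^ 4) (y := w ^ 14) (by rw [← o7, pow_orderOf_eq_one]) c27.symm
  have h6 : (Fx (w ^ 4) ∩ Fx (w ^ 14)).card ≤ fx (w ^ 4) := Finset.card_le_card Finset.inter_subset_left
  rw [Finset.inter_comm] at h2
  have h1 : (Fx (w ^ 4) ∩ Fx (w ^ 14)).card = 1 := by
    rw [f7] at h2 h6
    unfold Nat.ModEq at h2 h7
    rcases f2 with f2 | f2 <;> rw [f2] at h7 <;> omega
  -- `v = w ^ 7` of order 4 acts on the three fixed points
  have h4 : (w ^ 7) ^ 4 = 1 := by rw [← pow_mul, show 7 * 4 = 28 from rfl, ← hz', pow_orderOf_eq_one]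
  have hsub : Fx (w ^ 4) ⊆ Fx (w ^ 14) := by
    intro q hq
    by_contra hne
    rw [mem_Fx] at hq hne
    set v := w ^ 7 with hv
    have hvv : w ^ 14 = v * v := by rw [hv, ← pow_add]
    rw [hvv] at hne
    have hne : v (v q) ≠ q := hne
    have hc : ∀ p, (w ^ 4) p = p → (w ^ 4) (v p) = v p := by
      intro p hp
      have := congrArg (fun f : Equiv.Perm GolayPt => f p) ((Commute.refl w).pow_pow 4 7).eq
      calc (w ^ 4) (v p) = v ((w ^ 4) p) := this
        _ = _ := by rw [hp]
    have hv4 : v (v (v (v q))) = q := by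
      have := congrArg (fun f : Equiv.Perm GolayPt => f q) h4
      simpa [pow_succ] using this
    have hinj := v.injective
    have d1 : q ≠ v q := fun h => hne (by rw [← h, ← h])
    have d3 : q ≠ v (v (v q)) := fun h => d1 (by
      have := congrArg v h
      rw [hv4] at this
      exact this.symm)
    have hcard : ({q, v q, v (v q), v (v (v q))} : Finset GolayPt).card = 4 := by
      rw [Finset.card_insert_of_notMem, Finset.card_insert_of_notMem, Finset.card_insert_of_notMem,
        Finset.card_singleton]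
      · rw [Finset.mem_singleton]
        exact fun h => d1 (hinj (hinj h))
      · rw [Finset.mem_insert, Finset.mem_singleton]
        rintro (h | h)
        · exact d1 (hinj h)
        · exact hne (hinj h).symm
      · rw [Finset.mem_insert, Finset.mem_insert, Finset.mem_singleton]
        rintro (h | h | h)
        · exact d1 h
        · exact hne h.symm
        · exact d3 h
    have hle : ({q, v q, v (v q), v (v (v q))} : Finset GolayPt) ⊆ Fx (w ^ 4) := by
      intro p hp
      rw [Finset.mem_insert, Finset.mem_insert, Finset.mem_insert, Finset.mem_singleton] at hp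
      rw [mem_Fx]
      rcases hp with rfl | rfl | rfl | rfl
      · exact hq
      · exact hc _ hq
      · exact hc _ (hc _ hq)
      · exact hc _ (hc _ (hc _ hq))
    have := Finset.card_le_card hle
    rw [hcard, card_Fx, f7] at this
    omega
  rw [Finset.inter_eq_left.2 hsub, card_Fx, f7] at h1
  omega

theorem no22 (z : M24) : orderOf z ≠ 22 := by
  intro hz
  have o11 : orderOf (z ^ 2) = 11 := by rw [orderOf_pow_of_dvd (by norm_num) (by rw [hz]; norm_num), hz]
  have o2 : orderOf (z ^ 11) = 2 := by rw [orderOf_pow_of_dvd (by norm_num) (by rw [hz]; norm_num), hz]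
  have hc := Cfsg.Agent.H729.PairMathieu.card_cent_eleven o11
  have hm : z ^ 11 ∈ Subgroup.centralizer ({z ^ 2} : Set M24) :=
    Subgroup.mem_centralizer_singleton_iff.2 ((Commute.refl z).pow_pow 11 2)
  have h1 := Subgroup.orderOf_dvd_natCard _ hm
  rw [hc, o2] at h1
  norm_num at h1

/-- an element of order 21 of `M24` does not fix two points -/
theorem no21 (z : M24) (hz : orderOf z = 21) {a b : GolayPt} (hab : a ≠ b) (ha : (z : Equiv.Perm GolayPt) a = a)
    (hb : (z : Equiv.Perm GolayPt) b = b) : False := by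
  have hz' : orderOf (z : Equiv.Perm GolayPt) = 21 := by rw [Subgroup.orderOf_coe, hz]
  set w : Equiv.Perm GolayPt := (z : Equiv.Perm GolayPt) with hw
  have m7 : w ^ 3 ∈ M24 := pow_mem z.2 3
  have m3 : w ^ 7 ∈ M24 := pow_mem z.2 7
  have o7 : orderOf (w ^ 3) = 7 := by rw [orderOf_pow_of_dvd (by norm_num) (by rw [hz']; norm_num), hz']
  have o3 : orderOf (w ^ 7) = 3 := by rw [orderOf_pow_of_dvd (by norm_num) (by rw [hz']; norm_num), hz']
  have c : Commute (w ^ 3) (w ^ 7) := (Commute.refl w).pow_pow 3 7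
  have f7 := fx7 m7 o7
  have f3 := fx3 m3 o3
  have h3 := card_Fx_comm (p := 3) (x := w ^ 7) (y := w ^ 3) (by rw [← o3, pow_orderOf_eq_one]) c.symm
  have h7 := card_Fx_comm (p := 7) (x := w ^ 3) (y := w ^ 7) (by rw [← o7, pow_orderOf_eq_one]) c
  rw [Finset.inter_comm] at h3
  have h6 : (Fx (w ^ 3) ∩ Fx (w ^ 7)).card ≤ fx (w ^ 3) := Finset.card_le_card Finset.inter_subset_left
  have hfix : ∀ (n : ℕ) (p : GolayPt), w p = p → (w ^ n) p = p := by
    intro n p hp
    induction n with
    | zero => rfl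
    | succ n ih =>
      rw [pow_succ]
      show (w ^ n) (w p) = p
      rw [hp, ih]
  have h2 : 2 ≤ (Fx (w ^ 3) ∩ Fx (w ^ 7)).card := by
    have : ({a, b} : Finset GolayPt) ⊆ Fx (w ^ 3) ∩ Fx (w ^ 7) := by
      intro p hp
      rw [Finset.mem_insert, Finset.mem_singleton] at hp
      rw [Finset.mem_inter, mem_Fx, mem_Fx]
      rcases hp with rfl | rfl
      · exact ⟨hfix _ _ ha, hfix _ _ ha⟩
      · exact ⟨hfix _ _ hb, hfix _ _ hb⟩
    have h := Finset.card_le_card this
    rwa [Finset.card_pair hab] at h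
  rw [f7] at h3 h6
  unfold Nat.ModEq at h3 h7
  rcases f3 with f3 | f3 <;> rw [f3] at h7 <;> omega

section

variable {G : Type*} [Group G]

theorem not_m24 (h : Spor.IsoM24 G) {k : ℕ} (hk : ∀ z : M24, orderOf z ≠ k) (z : G) : orderOf z ≠ k := by
  obtain ⟨e⟩ := h
  intro hz
  exact hk (e z) (by rw [← hz]; exact orderOf_injective e.toMonoidHom e.injective z)

theorem not_m23 (h : Spor.IsoM23 G) {k : ℕ} (hk : ∀ z : M24, orderOf z ≠ k) (z : G) : orderOf z ≠ k := by
  obtain ⟨e⟩ := h
  intro hz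
  refine hk ⟨((e z : Spor.M23) : Equiv.Perm GolayPt), (e z).2.1⟩ ?_
  rw [Subgroup.orderOf_mk, Subgroup.orderOf_coe, ← hz]
  exact orderOf_injective e.toMonoidHom e.injective z

theorem not_m22 (h : Spor.IsoM22 G) (z : G) : orderOf z ≠ 21 := by
  obtain ⟨e⟩ := h
  intro hz
  refine no21 ⟨((e z : Spor.M22) : Equiv.Perm GolayPt), (e z).2.1.1⟩ ?_ (a := none) (b := some 0) (by decide)
    (e z).2.1.2 (e z).2.2
  rw [Subgroup.orderOf_mk, Subgroup.orderOf_coe, ← hz]
  exact orderOf_injective e.toMonoidHom e.injective z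

end

end Cfsg.Agent.H870.Der.MTF
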