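import Cfsg.Agent.H870.Der.Tool
import Cfsg.Agent.H870.Der.MTF
import Cfsg.Agent.S2063
import Cfsg.Agent.S2064

/-!
# S3500: the simple group at the top has trivial outer automorphism group (helper870)
-/

set_option autoImplicit false

namespace Cfsg.Agent.H870.Der

open Subgroup Cfsg.Agent.H439.Der Cfsg.Agent.H257.El Cfsg.Agent.OrdDiv

universe u

section

variable {R : Type*} [Group R] [Finite R] {r : ℕ} {O : Subgroup R} [O.Normal] {N : Subgroup (R ⧸ O)}

/-- the centralizer of a non-commutative `N` is trivial -/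
theorem centralizer_eq_bot (h : Top R r O N) (hna : ¬ ∀ a b : N, a * b = b * a) :
    centralizer (N : Set (R ⧸ O)) = ⊥ := by
  have hN := h.normal
  have hsim := h.simple
  have hr := h.prime
  refine h.bot _ inferInstance fun hd => ?_
  set C := centralizer (N : Set (R ⧸ O)) with hC
  have hdis : N ⊓ C = ⊥ := by
    have h1 : ((N ⊓ C).subgroupOf N).Normal := inferInstance
    rcases h1.eq_bot_or_eq_top with h2 | h2
    · rw [Subgroup.subgroupOf_eq_bot, disjoint_iff] at h2
      rw [eq_bot_iff, ← h2]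
      exact le_inf le_rfl inf_le_left
    · exfalso
      apply hna
      intro a b
      rw [Subgroup.subgroupOf_eq_top] at h2
      have h3 : (a : R ⧸ O) ∈ centralizer (N : Set (R ⧸ O)) := (h2 a.2).2
      rw [mem_centralizer_iff] at h3
      exact Subtype.ext (h3 b b.2).symm
  have hdvd : Nat.card C ∣ N.index := by
    refine Subgroup.card_dvd_of_injective ((QuotientGroup.mk' N).comp C.subtype) ?_
    rw [injective_iff_map_eq_one]
    intro c hc
    have h1 : (c : R ⧸ O) ∈ N := (QuotientGroup.eq_one_iff _).1 hc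
    have h2 : (c : R ⧸ O) ∈ N ⊓ C := ⟨h1, c.2⟩
    rw [hdis, mem_bot] at h2
    exact Subtype.ext h2
  apply h.sq'
  rw [pow_two, ← Subgroup.card_mul_index N]
  exact Nat.mul_dvd_mul h.dvd (hd.trans hdvd)

/-- `Out N = 1` : `N` is everything -/
theorem eq_top_of_out (h : Top R r O N) (hna : ¬ ∀ a b : N, a * b = b * a) (hO : Nat.card (Cfsg.Out N) = 1) :
    N = ⊤ := by
  have hN := h.normal
  rw [eq_top_iff]
  intro g _
  obtain ⟨n, hn⟩ := exists_conj hO (MulAut.conjNormal g : MulAut N)
  have h1 : (n : R ⧸ O)⁻¹ * g ∈ centralizer (N : Set (R ⧸ O)) := by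
    rw [mem_centralizer_iff]
    intro x hx
    have h2 : g * x * g⁻¹ = n * x * (n : R ⧸ O)⁻¹ := congrArg Subtype.val (hn ⟨x, hx⟩)
    calc x * ((n : R ⧸ O)⁻¹ * g) = (n : R ⧸ O)⁻¹ * (n * x * (n : R ⧸ O)⁻¹) * g := by group
      _ = (n : R ⧸ O)⁻¹ * (g * x * g⁻¹) * g := by rw [h2]
      _ = _ := by group
  rw [centralizer_eq_bot h hna, mem_bot] at h1
  have h2 : g = n := by
    calc g = (n : R ⧸ O) * ((n : R ⧸ O)⁻¹ * g) := by group
      _ = n := by rw [h1, mul_one]
  rw [h2]
  exact n.2

theorem out_m23 {G : Type*} [Group G] (h : Spor.IsoM23 G) : Nat.card (Cfsg.Out G) = 1 := by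
  obtain ⟨e⟩ := h
  rw [card_out_congr e, S2063.result]

theorem out_m24 {G : Type*} [Group G] (h : Spor.IsoM24 G) : Nat.card (Cfsg.Out G) = 1 := by
  obtain ⟨e⟩ := h
  rw [card_out_congr e, S2064.result]

/-- the orders of the elements of `R` if the core is trivial and `Out N = 1` -/
theorem not_order (h : Top R r O N) (hna : ¬ ∀ a b : N, a * b = b * a) (hO : Nat.card (Cfsg.Out N) = 1)
    (hO1 : ∀ s : ℕ, s.Prime → ¬ s ∣ Nat.card O) {k : ℕ} (hk : ∀ y : N, orderOf y ≠ k) (z : R) : orderOf z ≠ k := by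
  intro hz
  have hN := h.normal
  obtain ⟨y, hy⟩ := exists_of_top (O := O) (N := N) (by
    rw [eq_bot_of_not_dvd hO1, Subgroup.card_bot]; exact Nat.coprime_one_right k) (by
    rw [eq_top_of_out h hna hO, Subgroup.index_top]; exact Nat.coprime_one_right k) hz
  exact hk y hy

end

/-- the numeric condition for a trivial core -/
def okAll (l : List (ℕ × ℕ)) (r : ℕ) : Bool := l.all fun x => Nat.beq x.1 r || okPow l r x.1

section

variable {T : Type u} [Group T] [Finite T] {n : ℕ} {l : List (ℕ × ℕ)} {r : ℕ} {R : Subgroup T}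
  {O : Subgroup R} [O.Normal] {N : Subgroup (R ⧸ O)}

omit [Finite T] in
theorem card_core_dvd (S : SitB T n l r R) : Nat.card O ∣ n :=
  (Subgroup.card_subgroup_dvd_card O).trans S.dvd_n

/-- `r` is adjacent to no prime: the core is trivial -/
theorem core_trivial (S : SitB T n l r R) (h : Top R r O N)
    (hno : ∀ s : ℕ, s.Prime → r ≠ s → ∀ z : T, orderOf z ≠ r * s) (hok : okAll l r = true) (s : ℕ) (hs : s.Prime) :
    ¬ s ∣ Nat.card O := by
  intro hd
  have hrs : r ≠ s := by
    rintro rfl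
    exact h.core hd
  obtain ⟨k, hk, -⟩ := exists_pair S.valid hs le_rfl (by rw [pow_one]; exact hd.trans (card_core_dvd S))
  unfold okAll at hok
  rw [List.all_eq_true] at hok
  have h1 := hok _ hk
  rw [Bool.or_eq_true] at h1
  rcases h1 with h1 | h1
  · exact hrs (Nat.eq_of_beq_eq_true h1).symm
  · exact S.not_dvd_core h hs hrs (hno s hs hrs) h1 hd

/-- all the elements of `R` are in `N` : two missing orders -/
theorem not_order_of (S : SitB T n l r R) (h : Top R r O N) (hna : ¬ ∀ a b : N, a * b = b * a)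
    (hO : Nat.card (Cfsg.Out N) = 1) (hno : ∀ s : ℕ, s.Prime → r ≠ s → ∀ z : T, orderOf z ≠ r * s)
    (hok : okAll l r = true) {k : ℕ} (hk : ∀ y : N, orderOf y ≠ k) (z : R) : orderOf z ≠ k :=
  not_order h hna hO (core_trivial S h hno hok) hk z

end

end Cfsg.Agent.H870.Der
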