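import Cfsg.Agent.H870.Der.Tool2
import Cfsg.Agent.H978.TZ.Co3
import Cfsg.Agent.H978.TZ.Co12
import Cfsg.Agent.H347.Rat.Co1
import Cfsg.Agent.S0400
import Cfsg.Agent.S2070

/-!
# S3500: elements of orders 28 and 30 of `Co2` (helper870)

Signed permutations fixing a vector `2^8`, and the row of `Co2`.
-/

set_option autoImplicit false

namespace Cfsg.Agent.H870.Der.CoTwo

open Subgroup Cfsg Cfsg.Agent.H439.Der Cfsg.Agent.H257.El Cfsg.Agent.OrdDiv Cfsg.Agent.H870.Der
open Cfsg.Agent.SporadicA.GolayBase Cfsg.Agent.SporadicA.Co0Mono Cfsg.Agent.Leech.Basic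
open Cfsg.Agent.SporadicA.GolayPerm (papp isPerm isAut)
open Cfsg.Agent.J4Type.CocodeMask (mk isTab_mk IsTab)
open Cfsg.Agent.H180.KMathieu (ordOk orderOf_tab)

universe u

/-! ### vectors -/

/-- the vector `2` on the mask `m` -/
def vec (m : ℕ) (p : GolayPt) : ℤ := if m.testBit (idx p) then 2 else 0

/-- the two masks -/
def mA : ℕ := 5279
def mB : ℕ := 2173253

theorem filter_mod (f : GolayPt → ℤ) (k : ℤ) : (Finset.univ.filter fun i => f i ≡ k [ZMOD 4]) =
    (Finset.univ.filter fun i => f i ≡ k % 4 [ZMOD 4]) := by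
  apply Finset.filter_congr
  intro i _
  unfold Int.ModEq
  rw [Int.emod_emod_of_dvd _ (dvd_refl 4)]

theorem mod_cases (k : ℤ) : k % 4 = 0 ∨ k % 4 = 1 ∨ k % 4 = 2 ∨ k % 4 = 3 := by omega

theorem vecA_mem : vec mA ∈ leechLattice := by
  rw [mem_leech_iff]
  refine ⟨0, by decide +kernel, by decide +kernel, fun k => ?_⟩
  rw [mem_supports_iff, filter_mod]
  rcases mod_cases k with h | h | h | h <;> rw [h] <;> decide +kernel

theorem vecB_mem : vec mB ∈ leechLattice := by
  rw [mem_leech_iff]
  refine ⟨0, by decide +kernel, by decide +kernel, fun k => ?_⟩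
  rw [mem_supports_iff, filter_mod]
  rcases mod_cases k with h | h | h | h <;> rw [h] <;> decide +kernel

def vA : leechLattice := ⟨vec mA, vecA_mem⟩
def vB : leechLattice := ⟨vec mB, vecB_mem⟩

theorem norm_vA : sqNorm ((vA : leechLattice) : GolayPt → ℤ) = 32 := by
  show sqNorm (vec mA) = 32
  decide +kernel

theorem norm_vB : sqNorm ((vB : leechLattice) : GolayPt → ℤ) = 32 := by
  show sqNorm (vec mB) = 32
  decide +kernel

/-! ### words -/

theorem word_mem {m : ℕ} (hm : m < 2 ^ 24) (h : isCode m = true) : word m ∈ golayCode := by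
  rw [mem_golayCode_iff, maskW_word hm]
  exact h

/-- the numeric condition: `P` maps the mask `m` to `m'` -/
def mp (P m m' : ℕ) : Bool := (List.range 24).all fun i => m.testBit i == m'.testBit (papp P i)

theorem mp_spec {P m m' : ℕ} (h : mp P m m' = true) (p : GolayPt) :
    m.testBit (idx p) = m'.testBit (papp P (idx p)) := by
  unfold mp at h
  rw [List.all_eq_true] at h
  have := h (idx p) (List.mem_range.2 (idx_lt p))
  simpa using this

theorem wordPerm_eq {g : M24} {P m m' : ℕ} (hg : IsTab g P) (h : mp P m m' = true) (hm : word m ∈ golayCode)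
    (hm' : word m' ∈ golayCode) : wordPerm g ⟨word m, hm⟩ = ⟨word m', hm'⟩ := by
  apply Subtype.ext
  funext i
  rw [wordPerm_apply]
  show word m _ = word m' i
  have h1 := mp_spec h ((g : Equiv.Perm GolayPt).symm i)
  rw [← hg, Equiv.apply_symm_apply] at h1
  rw [word_apply, word_apply, h1]

theorem sign_smul_vec {m m0 : ℕ} (hm : word m ∈ golayCode) (hv : vec m0 ∈ leechLattice)
    (h : ((List.range 24).all fun i => !(m.testBit i && m0.testBit i)) = true) :
    signCo0 ⟨word m, hm⟩ • (⟨vec m0, hv⟩ : leechLattice) = ⟨vec m0, hv⟩ := by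
  apply Subtype.ext
  rw [signCo0_smul]
  funext i
  rw [signMap_apply]
  show sgn (word m i) * vec m0 i = vec m0 i
  rw [List.all_eq_true] at h
  have h1 := h (idx i) (List.mem_range.2 (idx_lt i))
  unfold vec
  rw [word_apply]
  cases h2 : m.testBit (idx i)
  · simp [sgn_zero]
  · cases h3 : m0.testBit (idx i)
    · simp
    · rw [h2, h3] at h1
      exact absurd h1 (by decide)

theorem perm_smul_vec {g : M24} {P m0 : ℕ} (hg : IsTab g P) (h : mp P m0 m0 = true) (hv : vec m0 ∈ leechLattice) :
    permCo0 g • (⟨vec m0, hv⟩ : leechLattice) = ⟨vec m0, hv⟩ := by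
  apply Subtype.ext
  rw [permCo0_smul]
  funext i
  show vec m0 ((g : Equiv.Perm GolayPt).symm i) = vec m0 i
  have h1 := mp_spec h ((g : Equiv.Perm GolayPt).symm i)
  rw [← hg, Equiv.apply_symm_apply] at h1
  unfold vec
  rw [h1]

theorem commute_of_inv {g : M24} {c : golayCode} (h : wordPerm g c = c) : Commute (permCo0 g) (signCo0 c) := by
  show permCo0 g * signCo0 c = signCo0 c * permCo0 g
  rw [perm_mul_sign, h]

theorem orderOf_perm {g : M24} {n : ℕ} (h : orderOf g = n) : orderOf (permCo0 g) = n := by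
  rw [orderOf_injective permCo0 Cfsg.Agent.CoOneType.Thirteen.permCo0_injective, h]

theorem orderOf_sign {c : golayCode} (h : c ≠ 0) : orderOf (signCo0 c) = 2 := by
  refine orderOf_eq_prime (by rw [pow_two]; exact signCo0_mul_self c) fun h1 => h ?_
  rw [← signCo0_zero] at h1
  exact Cfsg.Agent.H347.Rat.signCo0_inj h1

/-! ### the element of order 30 -/

def P15 : ℕ := 928860417207105645052770796341108033
def P7 : ℕ := 230635581110153142011976330170054288
def PT : ℕ := 849821764045615626788981702319802912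

theorem ok15 : (isPerm P15 && isAut P15) = true := by decide +kernel
theorem ok7 : (isPerm P7 && isAut P7) = true := by decide +kernel
theorem okT : (isPerm PT && isAut PT) = true := by decide +kernel

theorem code_e30 : word 16771936 ∈ golayCode := word_mem (by norm_num) (by decide +kernel)
theorem code_e28 : word 1594898 ∈ golayCode := word_mem (by norm_num) (by decide +kernel)
theorem code_e28' : word 13009064 ∈ golayCode := word_mem (by norm_num) (by decide +kernel)

theorem word_ne {m : ℕ} (hm : word m ∈ golayCode) (i : GolayPt) (h : m.testBit (idx i) = true) :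
    (⟨word m, hm⟩ : golayCode) ≠ 0 := by
  intro h1
  have h2 := congrArg (fun c : golayCode => (c : GolayPt → ZMod 2) i) h1
  have h3 : word m i = 0 := h2
  rw [word_apply, if_pos h] at h3
  exact absurd h3 (by decide)

theorem exists_co0_30 : ∃ g : Co0, orderOf g = 30 ∧ g • vA = vA := by
  have o15 : orderOf (mk P15 ok15) = 15 := orderOf_tab (isTab_mk _ _) (by decide +kernel)
  have hc : Commute (permCo0 (mk P15 ok15)) (signCo0 ⟨word 16771936, code_e30⟩) :=
    commute_of_inv (wordPerm_eq (isTab_mk _ _) (by decide +kernel) _ _)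
  refine ⟨permCo0 (mk P15 ok15) * signCo0 ⟨word 16771936, code_e30⟩, ?_, ?_⟩
  · have h2 : orderOf (signCo0 ⟨word 16771936, code_e30⟩) = 2 :=
      orderOf_sign (word_ne _ (pt 5) (by decide +kernel))
    rw [hc.orderOf_mul_eq_mul_orderOf_of_coprime (by rw [orderOf_perm o15, h2]; norm_num), orderOf_perm o15, h2]
  · rw [mul_smul]
    show permCo0 _ • (signCo0 _ • (⟨vec mA, vecA_mem⟩ : leechLattice)) = ⟨vec mA, vecA_mem⟩
    rw [sign_smul_vec _ _ (by decide +kernel), perm_smul_vec (isTab_mk _ _) (by decide +kernel)]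

/-! ### the element of order 28 -/

theorem exists_co0_28 : ∃ g : Co0, orderOf g = 28 ∧ g • vB = vB := by
  have o7 : orderOf (mk P7 ok7) = 7 := orderOf_tab (isTab_mk _ _) (by decide +kernel)
  have oT : orderOf (mk PT okT) = 2 := orderOf_tab (isTab_mk _ _) (by decide +kernel)
  set x := permCo0 (mk P7 ok7) with hx
  set t := permCo0 (mk PT okT) with ht
  set e := signCo0 ⟨word 1594898, code_e28⟩ with he
  set e' := signCo0 ⟨word 13009064, code_e28'⟩ with he'
  have htt : t * t = 1 := by
    rw [← pow_two, ← orderOf_perm oT, pow_orderOf_eq_one]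
  have hte : t * e = e' * t := by
    rw [ht, he, perm_mul_sign, wordPerm_eq (isTab_mk _ _) (m' := 13009064) (by decide +kernel) _ code_e28']
  have hxe : Commute x e := commute_of_inv (wordPerm_eq (isTab_mk _ _) (by decide +kernel) _ _)
  have hxt : Commute x t := by
    show x * t = t * x
    rw [hx, ht, ← map_mul, ← map_mul]
    congr 1
    exact ((isTab_mk _ _).mul (isTab_mk _ _)).eq
      (by rw [show Cfsg.Agent.J4Type.CocodeMask.pcomp P7 PT = Cfsg.Agent.J4Type.CocodeMask.pcomp PT P7 by decide +kernel]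
          exact (isTab_mk _ _).mul (isTab_mk _ _))
  have hee : (e * t) * (e * t) = e * e' := by
    calc (e * t) * (e * t) = e * (t * e) * t := by group
      _ = e * e' * (t * t) := by rw [hte]; group
      _ = e * e' := by rw [htt, mul_one]
  have hsum : e * e' = signCo0 (⟨word 1594898, code_e28⟩ + ⟨word 13009064, code_e28'⟩) := (signCo0_add _ _).symm
  have h4 : orderOf (e * t) = 4 := by
    have h5 : (e * t) ^ 2 ^ (1 + 1) = 1 := by
      rw [show (2 : ℕ) ^ (1 + 1) = 2 * 2 from rfl, pow_mul, pow_two (e * t), hee, hsum, pow_two, signCo0_mul_self]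
    have h6 : ¬ (e * t) ^ 2 ^ 1 = 1 := by
      rw [pow_one, pow_two, hee, hsum, ← signCo0_zero]
      intro h7
      have h8 := Cfsg.Agent.H347.Rat.signCo0_inj h7
      have h9 := congrArg (fun c : golayCode => (c : GolayPt → ZMod 2) (pt 1)) h8
      have h10 : word 1594898 (pt 1) + word 13009064 (pt 1) = 0 := h9
      exact absurd h10 (by decide +kernel)
    have : Fact (Nat.Prime 2) := ⟨Nat.prime_two⟩
    exact orderOf_eq_prime_pow h6 h5
  have hc : Commute x (e * t) := hxe.mul_right hxt
  refine ⟨x * (e * t), ?_, ?_⟩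
  · rw [hc.orderOf_mul_eq_mul_orderOf_of_coprime (by rw [orderOf_perm o7, h4]; norm_num), orderOf_perm o7, h4]
  · rw [mul_smul, mul_smul]
    show permCo0 _ • (signCo0 _ • (permCo0 _ • (⟨vec mB, vecB_mem⟩ : leechLattice))) = ⟨vec mB, vecB_mem⟩
    rw [perm_smul_vec (isTab_mk _ _) (by decide +kernel), sign_smul_vec _ _ (by decide +kernel),
      perm_smul_vec (isTab_mk _ _) (by decide +kernel)]

/-! ### `Co2` -/

theorem exists_of_fix {g : Co0} {v : leechLattice} (hv : sqNorm (v : GolayPt → ℤ) = 32) (hg : g • v = v) {n : ℕ}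
    (hn : orderOf g = n) : ∃ x : Spor.Co2, orderOf x = n := by
  have hu : sqNorm ((Spor.leechU : leechLattice) : GolayPt → ℤ) = 32 := by
    show sqNorm Spor.vecU = 32
    decide +kernel
  obtain ⟨h, hh⟩ := S0400.result v Spor.leechU hv hu
  have hfix : (h * g * h⁻¹) • Spor.leechU = Spor.leechU := by
    rw [← hh, mul_smul, mul_smul, inv_smul_smul, hg]
  have ho : orderOf (h * g * h⁻¹) = n := by
    rw [← hn]
    exact orderOf_injective (MulAut.conj h).toMonoidHom (MulAut.conj h).injective g
  refine ⟨⟨(h * g * h⁻¹).1, (h * g * h⁻¹).2, hfix⟩, ?_⟩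
  rw [← ho]
  let f : Spor.Co2 →* Co0 := Subgroup.inclusion (inf_le_left : Spor.Co2 ≤ Co0)
  exact (orderOf_injective f (Subgroup.inclusion_injective _) _).symm

theorem exists30 : ∃ x : Spor.Co2, orderOf x = 30 := by
  obtain ⟨g, hg, h⟩ := exists_co0_30
  exact exists_of_fix norm_vA h hg

theorem exists28 : ∃ x : Spor.Co2, orderOf x = 28 := by
  obtain ⟨g, hg, h⟩ := exists_co0_28
  exact exists_of_fix norm_vB h hg

theorem card_co2 : Nat.card Spor.Co2 = 42305421312000 := Cfsg.Agent.BiChar.Small.card_Co2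

instance finite_co2 : Finite Spor.Co2 := Nat.finite_of_card_ne_zero (by rw [card_co2]; norm_num)

theorem noOrd23 {s : ℕ} (hs : s.Prime) (h : 23 ≠ s) (z : Spor.Co2) : orderOf z ≠ 23 * s :=
  noOrd_of_cent (by norm_num) (fun _ hx => Cfsg.Agent.H978.TZ.Co12.card_cent2 hx) hs h z

/-- the factorisation of the order -/
def l : List (ℕ × ℕ) := [(2, 18), (3, 6), (5, 3), (7, 1), (11, 1), (23, 1)]

theorem not_sc5 : ¬ SC Spor.Co2 5 := by
  obtain ⟨x, hx⟩ := exists30
  exact not_SC_of_mul (by norm_num) hx (by norm_num) (by norm_num)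

theorem not_sc23 : ¬ SC Spor.Co2 23 := by
  have : Fact (Nat.Prime 23) := ⟨by norm_num⟩
  obtain ⟨x, hx⟩ := exists_prime_orderOf_dvd_card' (G := Spor.Co2) 23 (by rw [card_co2]; norm_num)
  exact not_SC_of_self (by norm_num) (by rw [card_co2]; norm_num) (by rw [card_co2]; norm_num) S2070.result hx
    (Cfsg.Agent.H978.TZ.Co12.card_cent2 hx) (by rw [card_co2]; norm_num)

theorem surv_eq : surv 42305421312000 l 23 [5] = [.m23, .m24] := by decide +kernel

end Cfsg.Agent.H870.Der.CoTwo
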