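import Cfsg.Agent.H870.Der.Tool3
import Cfsg.Agent.H478.SporConway
import Cfsg.Agent.NotCT.Orders
import Cfsg.Agent.S2069

/-!
# S3500: the row of `Co1` (helper870)
-/

set_option autoImplicit false

namespace Cfsg.Agent.H870.Der.CoOne

open Subgroup Cfsg Cfsg.Agent.H439.Der Cfsg.Agent.H257.El Cfsg.Agent.OrdDiv Cfsg.Agent.H870.Der

universe u

/-- the factorisation of the order -/
def l : List (ℕ × ℕ) := [(2, 21), (3, 9), (5, 4), (7, 2), (11, 1), (13, 1), (23, 1)]

/-- **S3500 for `Co1`** -/
theorem row_co1 (tab : OrderTable.{u}) (known : Known.{u}) {T : Type u} [Group T] (h : Spor.IsoCo1 T) : Row T := by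
  have hc := NotCT.Orders.co1 h
  have : Finite T := Nat.finite_of_card_ne_zero (by rw [hc]; norm_num)
  obtain ⟨e⟩ := h
  have : Finite Spor.Co1 := Finite.of_equiv T e.toEquiv
  have hO : Nat.card (Cfsg.Out T) = 1 := by rw [card_out_congr e, S2069.result]
  have hno : ∀ z : T, orderOf z ≠ 23 * 13 :=
    noOrd_congr e (noOrd_of_noComm (by norm_num) (by norm_num) fun x y hx hy =>
      H478.SporConway.ncomm_co1 (p := 23) (q := 13) (by norm_num) (by norm_num) (by norm_num) (by norm_num)
        (by norm_num) (by norm_num) (by norm_num) hx hy)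
  intro M hM
  left
  by_cases h23 : 23 ∣ Nat.card M
  · exact Two.of_not_dvd (not_dvd_of_pair (l := l) tab known hc (by norm_num) (by norm_num) hno (by decide +kernel)
      hM.1 h23) (not_SC_chk (by norm_num) hc hO (by decide +kernel))
  · exact Two.of_not_dvd h23 (not_SC_chk (by norm_num) hc hO (by decide +kernel))

end Cfsg.Agent.H870.Der.CoOne
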