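import Cfsg.Agent.H870.Der.Tool2
import Cfsg.Agent.H729.PairCo3
import Cfsg.Agent.H978.TZ.Co3
import Cfsg.Agent.S2071

/-!
# S3500: the row of `Co3` (helper870)
-/

set_option autoImplicit false

namespace Cfsg.Agent.H870.Der.CoThree

open Subgroup Cfsg Cfsg.Agent.H439.Der Cfsg.Agent.H257.El Cfsg.Agent.OrdDiv Cfsg.Agent.H870.Der
open Cfsg.Agent.SporRec.TwoSp6.Sp Cfsg.Agent.SporRec.TwoSp6.CInvol Cfsg.Agent.H729.PairCo3

universe u

/-- An element of order 15 of `Sp6(2)`. -/
def s15 : S := tr (enc 1) * tr (enc 8) * tr (enc 3) * tr (enc 16) * tr (enc 4) * tr (enc 32)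

def g15 (c : ℕ) : ℕ := sc 1 (sc 8 (sc 3 (sc 16 (sc 4 (sc 32 c)))))

theorem act_s15 (c : ℕ) : act s15 (enc c) = enc (g15 c) := by
  unfold s15 g15
  simp only [act_mul, act_tr_enc]

theorem act_pow (c n : ℕ) : act (s15 ^ n) (enc c) = enc (g15^[n] c) := by
  induction n generalizing c with
  | zero => rw [pow_zero, act_one]; rfl
  | succ n ih => rw [pow_succ, act_mul, act_s15, ih]; rfl

theorem it15 : ∀ c < 64, g15^[15] c = c := by decide +kernel

theorem s15_pow : s15 ^ 15 = 1 := by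
  apply act_ext
  intro x
  obtain ⟨c, hc, rfl⟩ := exists_enc x
  rw [act_one, act_pow, it15 c hc]

theorem s15_ne {n c d : ℕ} (hc : c < 64) (hd : d < 64) (h : g15^[n] c = d) (hne : d ≠ c) : s15 ^ n ≠ 1 := by
  intro h1
  have h2 := act_pow c n
  rw [h1, act_one, h] at h2
  exact hne (enc_inj d hd c hc h2.symm)

theorem orderOf_s15 : orderOf s15 = 15 := by
  have h := orderOf_dvd_of_pow_eq_one s15_pow
  have h5 : ¬ orderOf s15 ∣ 5 := fun hd => s15_ne (n := 5) (c := 4) (d := g15^[5] 4) (by norm_num)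
    (by decide +kernel) rfl (by decide +kernel) (orderOf_dvd_iff_pow_eq_one.1 hd)
  have h3 : ¬ orderOf s15 ∣ 3 := fun hd => s15_ne (n := 3) (c := 1) (d := g15^[3] 1) (by norm_num)
    (by decide +kernel) rfl (by decide +kernel) (orderOf_dvd_iff_pow_eq_one.1 hd)
  have hmem : orderOf s15 ∈ Nat.divisors 15 := Nat.mem_divisors.2 ⟨h, by norm_num⟩
  have hdiv : Nat.divisors 15 = {1, 3, 5, 15} := by decide +kernel
  rw [hdiv] at hmem
  simp only [Finset.mem_insert, Finset.mem_singleton] at hmem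
  rcases hmem with h1 | h1 | h1 | h1
  · exact absurd (by rw [h1]; norm_num) h3
  · exact absurd (by rw [h1]) h3
  · exact absurd (by rw [h1]) h5
  · exact h1

theorem orderOf_s7 : orderOf s7 = 7 :=
  have : Fact (Nat.Prime 7) := ⟨by norm_num⟩
  orderOf_eq_prime s7_pow s7_ne

/-- lifting an element of odd order to an element of twice the order -/
theorem exists_lift_two {C Q : Type*} [Group C] [Group Q] {z : C} {π : C →* Q} (hk : ∀ x, π x = 1 → x = 1 ∨ x = z)
    (hz2 : orderOf z = 2) (hz : ∀ g, g * z = z * g) {c0 : C} {n : ℕ} (hn : Odd n) (hs : orderOf (π c0) = n) :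
    ∃ c : C, orderOf c = 2 * n := by
  have h1 : c0 ^ (2 * n) = 1 := by
    have h2 : π (c0 ^ n) = 1 := by rw [map_pow, ← hs, pow_orderOf_eq_one]
    rw [mul_comm, pow_mul]
    rcases hk _ h2 with h | h
    · rw [h, one_pow]
    · rw [h, ← hz2, pow_orderOf_eq_one]
  have h3 : orderOf (c0 ^ (n + 1)) = n := by
    apply Nat.dvd_antisymm
    · apply orderOf_dvd_of_pow_eq_one
      obtain ⟨k, hk⟩ := hn
      rw [← pow_mul, show (n + 1) * n = (2 * n) * (k + 1) by rw [hk]; ring, pow_mul, h1, one_pow]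
    · have h4 : orderOf (π (c0 ^ (n + 1))) = n := by
        have h5 : π (c0 ^ (n + 1)) = π c0 := by
          rw [map_pow, pow_succ]
          nth_rewrite 1 [← hs]
          rw [pow_orderOf_eq_one, one_mul]
        rw [h5, hs]
      calc n = orderOf (π (c0 ^ (n + 1))) := h4.symm
        _ ∣ orderOf (c0 ^ (n + 1)) := orderOf_map_dvd _ _
  have hco : Commute (c0 ^ (n + 1)) z := hz _
  have hcop : Nat.Coprime (orderOf (c0 ^ (n + 1))) (orderOf z) := by
    rw [h3, hz2]; exact hn.coprime_two_right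
  have h6 := hco.orderOf_mul_eq_mul_orderOf_of_coprime hcop
  exact ⟨c0 ^ (n + 1) * z, by rw [h6, h3, hz2, mul_comm]⟩

theorem exists_two_mul {s : S} {n : ℕ} (hn : Odd n) (hs : orderOf s = n) : ∃ g : Spor.Co3, orderOf g = 2 * n := by
  obtain ⟨π, N⟩ := Cfsg.Agent.KFacts.Co3D4.exists_NS_G3
  obtain ⟨c0, hc0⟩ := N.surj s
  obtain ⟨c, hc⟩ := exists_lift_two (π := π) N.ker
    (orderOf_eq_prime (by rw [pow_two]; exact N.z_sq) N.z_ne) (fun g => by
      apply Subtype.ext
      exact mem_centralizer_singleton_iff.1 g.2) hn (by rw [hc0]; exact hs)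
  refine ⟨SporRec.Co3.Model.equivCo3 (c : _), ?_⟩
  rw [← hc, ← Subgroup.orderOf_coe c]
  exact orderOf_injective SporRec.Co3.Model.equivCo3.toMonoidHom SporRec.Co3.Model.equivCo3.injective _

theorem exists30 : ∃ g : Spor.Co3, orderOf g = 30 := exists_two_mul (n := 15) (by decide) orderOf_s15

theorem exists14 : ∃ g : Spor.Co3, orderOf g = 14 := exists_two_mul (n := 7) (by decide) orderOf_s7

theorem exists22 : ∃ g : Spor.Co3, orderOf g = 22 := Cfsg.Agent.H978.TZ.Co3.exists22

theorem card_co3 : Nat.card Spor.Co3 = 495766656000 := Cfsg.Agent.H843.IMC.Co3A.card_co3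

instance finite_co3 : Finite Spor.Co3 := Nat.finite_of_card_ne_zero (by rw [card_co3]; norm_num)

theorem noOrd23 {s : ℕ} (hs : s.Prime) (h : 23 ≠ s) (z : Spor.Co3) : orderOf z ≠ 23 * s :=
  noOrd_of_cent (by norm_num) (fun _ hx => Cfsg.Agent.H978.TZ.Co3.card_cent hx) hs h z

/-- the factorisation of the order -/
def l : List (ℕ × ℕ) := [(2, 10), (3, 7), (5, 3), (7, 1), (11, 1), (23, 1)]

/-- no prime is `SC` -/
theorem nsc : NSC Spor.Co3 := by
  intro v hv hd
  rw [card_co3] at hd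
  obtain ⟨k, hk, -⟩ := exists_pair (l := l) (N := 495766656000) (by decide +kernel) hv le_rfl (by rwa [pow_one])
  obtain ⟨x30, h30⟩ := exists30
  obtain ⟨x14, h14⟩ := exists14
  obtain ⟨x22, h22⟩ := exists22
  simp only [l, List.mem_cons, Prod.mk.injEq, List.not_mem_nil, or_false] at hk
  rcases hk with ⟨rfl, -⟩ | ⟨rfl, -⟩ | ⟨rfl, -⟩ | ⟨rfl, -⟩ | ⟨rfl, -⟩ | ⟨rfl, -⟩
  · exact not_SC_of_mul hv h30 (by norm_num) (by norm_num)
  · exact not_SC_of_mul hv h30 (by norm_num) (by norm_num)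
  · exact not_SC_of_mul hv h30 (by norm_num) (by norm_num)
  · exact not_SC_of_mul hv h14 (by norm_num) (by norm_num)
  · exact not_SC_of_mul hv h22 (by norm_num) (by norm_num)
  · have := Fact.mk hv
    obtain ⟨x, hx⟩ := exists_prime_orderOf_dvd_card' (G := Spor.Co3) 23 (by rw [card_co3]; norm_num)
    exact not_SC_of_self hv (by rw [card_co3]; norm_num) (by rw [card_co3]; norm_num) S2071.result hx
      (Cfsg.Agent.H978.TZ.Co3.card_cent hx) (by rw [card_co3]; norm_num)

theorem surv_eq : surv 495766656000 l 23 [5] = [.m23, .m24] := by decide +kernel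

/-- **S3500 for `Co3`** -/
theorem row_co3 (tab : OrderTable.{u}) (known : Known.{u}) {T : Type u} [Group T] (h : Spor.IsoCo3 T) : Row T := by
  obtain ⟨e⟩ := h
  have hc : Nat.card T = 495766656000 := by rw [Nat.card_congr e.toEquiv, card_co3]
  have : Finite T := Finite.of_equiv _ e.symm.toEquiv
  have hn : NSC T := nsc.congr e.symm
  have hno : ∀ s : ℕ, s.Prime → 23 ≠ s → ∀ z : T, orderOf z ≠ 23 * s := fun s hs h => noOrd_congr e (noOrd23 hs h)
  intro M hM
  left
  by_cases h23 : 23 ∣ Nat.card M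
  swap
  · exact Two.of_not_dvd h23 (hn 23 (by norm_num) (by rw [hc]; norm_num))
  by_cases h5 : 5 ∣ Nat.card M
  swap
  · exact Two.of_not_dvd h5 (hn 5 (by norm_num) (by rw [hc]; norm_num))
  have S : SitB T 495766656000 l 23 M := ⟨tab, known, hc, by decide +kernel, by norm_num, h23, by norm_num, hM.1⟩
  obtain ⟨O, hO, N, ht, g, hg, hr, hgc⟩ := S.exists_name (s := 5) (by norm_num) (by norm_num)
    (hno 5 (by norm_num) (by norm_num)) (by decide +kernel) h5
  rw [surv_eq] at hg
  have hna : ¬ ∀ a b : N, a * b = b * a := by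
    intro hcm
    have h1 := ht.card_of_comm hcm
    rw [h1] at hgc
    simp only [List.mem_cons, List.not_mem_nil, or_false] at hg
    rcases hg with rfl | rfl
    · exact absurd hgc (by decide +kernel)
    · exact absurd hgc (by decide +kernel)
  have hT : (∃ x : T, orderOf x = 22) ∧ ∃ x : T, orderOf x = 30 := by
    have key : ∀ k : ℕ, (∃ x : Spor.Co3, orderOf x = k) → ∃ x : T, orderOf x = k := fun k ⟨x, hx⟩ =>
      ⟨e.symm x, by rw [MulEquiv.orderOf_eq, hx]⟩
    exact ⟨key _ exists22, key _ exists30⟩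
  have hok : okAll l 23 = true := by decide +kernel
  simp only [List.mem_cons, List.not_mem_nil, or_false] at hg
  rcases hg with rfl | rfl
  · have hr : Spor.IsoM23 N := hr
    exact two_of_orders (a := 22) (b := 30) (by norm_num) hT.1 hT.2
      (not_order_of S ht hna (out_m23 hr) hno hok (MTF.not_m23 hr MTF.no22))
      (not_order_of S ht hna (out_m23 hr) hno hok (MTF.not_m23 hr MTF.no30))
  · have hr : Spor.IsoM24 N := hr
    exact two_of_orders (a := 22) (b := 30) (by norm_num) hT.1 hT.2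
      (not_order_of S ht hna (out_m24 hr) hno hok (MTF.not_m24 hr MTF.no22))
      (not_order_of S ht hna (out_m24 hr) hno hok (MTF.not_m24 hr MTF.no30))

end Cfsg.Agent.H870.Der.CoThree
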