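import Cfsg.Agent.H870.Der.MTF
import Cfsg.Agent.H403.LinTwo
import Cfsg.Agent.H403.LinLift
import Cfsg.Agent.OrdDiv.Main

/-!
# S3500, S3502 for `Fi22`: facts on the simple groups `A11`, `A12`, `A13`, `M22`, `U6(2)` (helper870)
-/

set_option autoImplicit false

namespace Cfsg.Agent.H870.Der.FiTwo

open Subgroup Cfsg

section alt

open Equiv.Perm

theorem alt_of_cycle {n : ℕ} {m : Multiset ℕ} (hs : m.sum ≤ n) (h2 : ∀ a ∈ m, 2 ≤ a)
    (he : Even (m.sum + Multiset.card m)) : ∃ x : alternatingGroup (Fin n), (x : Equiv.Perm (Fin n)).cycleType = m := by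
  obtain ⟨g, hg⟩ := (Equiv.Perm.exists_with_cycleType_iff (α := Fin n) (m := m)).2 ⟨by rwa [Fintype.card_fin], h2⟩
  refine ⟨⟨g, ?_⟩, hg⟩
  rw [mem_alternatingGroup, sign_of_cycleType, hg, he.neg_one_pow]

/-- `A12`, `A13` have elements of order 35 -/
theorem alt35 {n : ℕ} (hn : 12 ≤ n) {S : Type*} [Group S] (h : Nonempty (S ≃* alternatingGroup (Fin n))) :
    ∃ x : S, orderOf x = 35 := by
  obtain ⟨e⟩ := h
  obtain ⟨x, hx⟩ := alt_of_cycle (n := n) (m := {7, 5}) (by simpa using hn) (by decide) (by decide)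
  refine ⟨e.symm x, ?_⟩
  rw [MulEquiv.orderOf_eq, ← Subgroup.orderOf_coe, ← lcm_cycleType, hx]
  decide

/-- the centralizer of an element of order 7 in `A11` -/
theorem alt11 {S : Type*} [Group S] (h : Nonempty (S ≃* alternatingGroup (Fin 11))) :
    ∃ x : S, orderOf x = 7 ∧ 4 ∣ Nat.card (centralizer ({x} : Set S)) := by
  obtain ⟨e⟩ := h
  obtain ⟨x, hx⟩ := alt_of_cycle (n := 11) (m := {7}) (by decide) (by decide) (by decide)
  have ho : orderOf (e.symm x) = 7 := by
    rw [MulEquiv.orderOf_eq, ← Subgroup.orderOf_coe, ← lcm_cycleType, hx]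
    decide
  refine ⟨e.symm x, ho, ?_⟩
  have hC : Nat.card (centralizer ({(x : Equiv.Perm (Fin 11))} : Set (Equiv.Perm (Fin 11)))) = 168 := by
    rw [Equiv.Perm.nat_card_centralizer, hx]
    decide
  set C := centralizer ({(x : Equiv.Perm (Fin 11))} : Set (Equiv.Perm (Fin 11))) with hCd
  have h1 : (alternatingGroup (Fin 11)).relIndex C ∣ 2 := by
    have h2 := Subgroup.relIndex_dvd_index_of_normal (alternatingGroup (Fin 11)) C
    rwa [alternatingGroup.index_eq_two] at h2
  have h2 : Nat.card ((alternatingGroup (Fin 11)).subgroupOf C) * (alternatingGroup (Fin 11)).relIndex C = 168 := by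
    rw [← hC]
    exact Subgroup.card_mul_index ((alternatingGroup (Fin 11)).subgroupOf C)
  have h3 : Nat.card ((alternatingGroup (Fin 11)).subgroupOf C) = Nat.card (centralizer ({e.symm x} : Set S)) := by
    refine Nat.card_congr
      { toFun := fun c => ⟨e.symm ⟨(c : C), c.2⟩, ?_⟩
        invFun := fun s => ⟨⟨((e s : alternatingGroup (Fin 11)) : Equiv.Perm (Fin 11)), ?_⟩, (e s).2⟩
        left_inv := fun c => ?_
        right_inv := fun s => ?_ }
    · rw [mem_centralizer_singleton_iff, ← map_mul, ← map_mul]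
      congr 1
      apply Subtype.ext
      exact mem_centralizer_singleton_iff.1 c.1.2
    · rw [hCd, mem_centralizer_singleton_iff]
      have h4 := mem_centralizer_singleton_iff.1 s.2
      have h5 := congrArg e h4
      rw [map_mul, map_mul, MulEquiv.apply_symm_apply] at h5
      exact congrArg Subtype.val h5
    · apply Subtype.ext
      apply Subtype.ext
      show ((e (e.symm ⟨((c : C) : Equiv.Perm (Fin 11)), c.2⟩) : alternatingGroup (Fin 11)) : Equiv.Perm (Fin 11)) = _
      rw [MulEquiv.apply_symm_apply]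
    · apply Subtype.ext
      show e.symm ⟨((e s : alternatingGroup (Fin 11)) : Equiv.Perm (Fin 11)), (e s).2⟩ = s
      exact e.symm_apply_apply (s : S)
  rw [h3] at h2
  rcases (Nat.dvd_prime Nat.prime_two).1 h1 with h4 | h4 <;> rw [h4] at h2
  · exact ⟨42, by omega⟩
  · exact ⟨21, by omega⟩

end alt

section mathieu

open Equiv.Perm Cfsg.Agent.H180.MEl Cfsg.Agent.H870.Der.MTF
open Cfsg.Agent.H866.InvolType (fx)

/-- an element of order 15 of `M24` does not fix two points -/
theorem no15 (z : M24) (hz : orderOf z = 15) {a b : GolayPt} (hab : a ≠ b) (ha : (z : Equiv.Perm GolayPt) a = a)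
    (hb : (z : Equiv.Perm GolayPt) b = b) : False := by
  have hz' : orderOf (z : Equiv.Perm GolayPt) = 15 := by rw [Subgroup.orderOf_coe, hz]
  set w : Equiv.Perm GolayPt := (z : Equiv.Perm GolayPt) with hw
  have m5 : w ^ 3 ∈ M24 := pow_mem z.2 3
  have m3 : w ^ 5 ∈ M24 := pow_mem z.2 5
  have o5 : orderOf (w ^ 3) = 5 := by rw [orderOf_pow_of_dvd (by norm_num) (by rw [hz']; norm_num), hz']
  have o3 : orderOf (w ^ 5) = 3 := by rw [orderOf_pow_of_dvd (by norm_num) (by rw [hz']; norm_num), hz']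
  have c : Commute (w ^ 3) (w ^ 5) := (Commute.refl w).pow_pow 3 5
  have f5 := fx5 m5 o5
  have f3 := fx3 m3 o3
  have h3 := card_Fx_comm (p := 3) (x := w ^ 5) (y := w ^ 3) (by rw [← o3, pow_orderOf_eq_one]) c.symm
  have h5 := card_Fx_comm (p := 5) (x := w ^ 3) (y := w ^ 5) (by rw [← o5, pow_orderOf_eq_one]) c
  rw [Finset.inter_comm] at h3
  have h6 : (Fx (w ^ 3) ∩ Fx (w ^ 5)).card ≤ fx (w ^ 3) := Finset.card_le_card Finset.inter_subset_left
  have hfix : ∀ (n : ℕ) (p : GolayPt), w p = p → (w ^ n) p = p := by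
    intro n p hp
    induction n with
    | zero => rfl
    | succ n ih =>
      rw [pow_succ]
      show (w ^ n) (w p) = p
      rw [hp, ih]
  have h2 : 2 ≤ (Fx (w ^ 3) ∩ Fx (w ^ 5)).card := by
    have : ({a, b} : Finset GolayPt) ⊆ Fx (w ^ 3) ∩ Fx (w ^ 5) := by
      intro p hp
      rw [Finset.mem_insert, Finset.mem_singleton] at hp
      rw [Finset.mem_inter, mem_Fx, mem_Fx]
      rcases hp with rfl | rfl
      · exact ⟨hfix _ _ ha, hfix _ _ ha⟩
      · exact ⟨hfix _ _ hb, hfix _ _ hb⟩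
    have h := Finset.card_le_card this
    rwa [Finset.card_pair hab] at h
  rw [f5] at h3 h6
  unfold Nat.ModEq at h3 h5
  rcases f3 with f3 | f3 <;> rw [f3] at h5 <;> omega

theorem m22_no15 {G : Type*} [Group G] (h : Spor.IsoM22 G) (z : G) : orderOf z ≠ 15 := by
  obtain ⟨e⟩ := h
  intro hz
  refine no15 ⟨((e z : Spor.M22) : Equiv.Perm GolayPt), (e z).2.1.1⟩ ?_ (a := none) (b := some 0) (by decide)
    (e z).2.1.2 (e z).2.2
  rw [Subgroup.orderOf_mk, Subgroup.orderOf_coe, ← hz]
  exact orderOf_injective e.toMonoidHom e.injective z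

end mathieu

/-- `U6(2)` has no elements of order 21 -/
theorem u6_no21 {S : Type*} [Group S] (h : OrdDiv.Real (.psu 6 2) S) (z : S) : orderOf z ≠ 21 := by
  obtain ⟨F, _, _, hF, ⟨e⟩⟩ := h
  intro hz
  refine H403.Lin.not_adj_u6 (H403.lin_psu (E := AlgebraicClosure F) hF (by norm_num)) hF ⟨e z, ?_⟩
  rw [MulEquiv.orderOf_eq, hz]

end Cfsg.Agent.H870.Der.FiTwo
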