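import Cfsg.Agent.H870.Der.FiTwoA
import Cfsg.Agent.H870.Der.FiTwoB
import Cfsg.Agent.H385.SpConway
import Cfsg.Agent.S2062

/-!
# S3500, S3502: the row of `Fi22` (helper870)
-/

set_option autoImplicit false

namespace Cfsg.Agent.H870.Der.FiTwo

open Subgroup Cfsg Cfsg.Agent.H439.Der Cfsg.Agent.H257.El Cfsg.Agent.OrdDiv Cfsg.Agent.H870.Der
open Cfsg.Agent.H713.Count Cfsg.Agent.H713 Cfsg.Agent.H870.Der.Cop

universe u

/-! ### general tools -/

section

variable {R : Type*} [Group R] [Finite R] {r : ℕ} {O : Subgroup R} [O.Normal] {N : Subgroup (R ⧸ O)}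

/-- the index of `N` divides `|Out N|` -/
theorem index_dvd_out (h : Top R r O N) (hna : ¬ ∀ a b : N, a * b = b * a) : N.index ∣ Nat.card (Cfsg.Out N) := by
  have hN := h.normal
  have : Finite (MulAut N) := Finite.of_injective (fun f : MulAut N => (f : N → N)) DFunLike.coe_injective
  let φ : (R ⧸ O) →* Cfsg.Out N := (QuotientGroup.mk' (Cfsg.Inn N)).comp (MulAut.conjNormal (H := N))
  have hker : φ.ker = N := by
    ext g
    constructor
    · intro hg
      have h1 : (MulAut.conjNormal g : MulAut N) ∈ Cfsg.Inn N := (QuotientGroup.eq_one_iff _).1 hg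
      obtain ⟨n, hn⟩ := h1
      have h2 : (n : R ⧸ O)⁻¹ * g ∈ centralizer (N : Set (R ⧸ O)) := by
        rw [mem_centralizer_iff]
        intro x hx
        have h3 : g * x * g⁻¹ = n * x * (n : R ⧸ O)⁻¹ := by
          have h4 := congrArg (fun f : MulAut N => ((f ⟨x, hx⟩ : N) : R ⧸ O)) hn
          exact h4.symm
        calc x * ((n : R ⧸ O)⁻¹ * g) = (n : R ⧸ O)⁻¹ * (n * x * (n : R ⧸ O)⁻¹) * g := by group
          _ = (n : R ⧸ O)⁻¹ * (g * x * g⁻¹) * g := by rw [h3]
          _ = _ := by group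
      rw [centralizer_eq_bot h hna, mem_bot] at h2
      have h3 : g = n := by
        calc g = (n : R ⧸ O) * ((n : R ⧸ O)⁻¹ * g) := by group
          _ = n := by rw [h2, mul_one]
      rw [h3]
      exact n.2
    · intro hg
      refine (QuotientGroup.eq_one_iff _).2 ⟨⟨g, hg⟩, ?_⟩
      ext x
      rfl
  have h1 : N.index = Nat.card φ.range := by
    have h2 := Subgroup.index_ker φ
    rwa [hker] at h2
  rw [h1]
  exact Subgroup.card_subgroup_dvd_card _

theorem card_eq (O : Subgroup R) [O.Normal] (N : Subgroup (R ⧸ O)) :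
    Nat.card R = Nat.card N * (Nat.card O * N.index) := by
  rw [← card_quot_mul O, ← Subgroup.card_mul_index N]
  ring

/-- elements of `N` give elements of `R` of the same order -/
theorem exists_of_N {k : ℕ} (h : ∃ x : N, orderOf x = k) : ∃ z : R, orderOf z = k := by
  obtain ⟨x, hx⟩ := h
  obtain ⟨y, hy⟩ := QuotientGroup.mk'_surjective O (x : R ⧸ O)
  obtain ⟨j, hj⟩ := exists_lift (QuotientGroup.mk' O) (z := y) (n := k) (by rw [hy, Subgroup.orderOf_coe, hx])
  exact ⟨y ^ j, hj⟩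

/-- the core if a prime `r` is adjacent to no prime divisor of its order -/
theorem not_dvd_core' {s : ℕ} (hr : r.Prime) (hs : s.Prime) (hrs : r ≠ s) (hd : r ∣ Nat.card R)
    (hrO : ¬ r ∣ Nat.card O) (hno : ∀ z : R, orderOf z ≠ r * s) (hord : ∀ b, 1 ≤ b → s ^ b ∣ Nat.card O → s ^ b % r ≠ 1) :
    ¬ s ∣ Nat.card O := by
  intro hsO
  have hr' : Fact r.Prime := ⟨hr⟩
  have hs' : Fact s.Prime := ⟨hs⟩
  obtain ⟨S⟩ : Nonempty (Sylow s O) := inferInstance
  obtain ⟨y, hy, hyS⟩ := exists_normalizer hd O hrO S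
  set P : Subgroup R := (S : Subgroup O).map O.subtype with hP
  have hPp : IsPGroup s P := S.isPGroup'.map _
  have hPc : Nat.card P = Nat.card S := by
    rw [hP, Subgroup.card_map_of_injective O.subtype_injective]
  obtain ⟨b, hb⟩ := IsPGroup.iff_card.1 hPp
  have hb1 : 1 ≤ b := by
    by_contra hb0
    have : b = 0 := by omega
    rw [this, pow_zero] at hb
    have h3 := S.card_eq_multiplicity
    rw [← hPc, hb] at h3
    have h4 : 1 ≤ (Nat.card O).factorization s := by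
      have := (hs.pow_dvd_iff_le_factorization (k := 1) (n := Nat.card O) Nat.card_pos.ne').1 (by rwa [pow_one])
      exact this
    have h5 := Nat.one_lt_pow (n := (Nat.card O).factorization s) (by omega) hs.one_lt
    omega
  have h1 := hord b hb1 (by rw [← hb, hPc]; exact Subgroup.card_subgroup_dvd_card (S : Subgroup O))
  obtain ⟨w, -, hw, hyw⟩ := exists_comm_of_normalizer hr hs hy hPp hyS (by rw [hb]; exact h1)
  exact hno _ (orderOf_mul_of_comm hr hs hrs hy hw hyw)

end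

/-- **the 3-part of the core** : `r` not adjacent to 3, and `9` does not divide the centralizer order of elements of
order `q` -/
theorem not_three_dvd {R : Type*} [Group R] [Finite R] {r : ℕ} {O : Subgroup R} [O.Normal] {q : ℕ} (hr : r.Prime) (hq : q.Prime) (hr3 : r ≠ 3) (hd : r ∣ Nat.card R) (hdq : q ∣ Nat.card R)
    (hrO : ¬ r ∣ Nat.card O) (hqO : ¬ q ∣ Nat.card O) (hno : ∀ z : R, orderOf z ≠ r * 3)
    (hC : ∀ y : R, orderOf y = q → ¬ 9 ∣ Nat.card (centralizer ({y} : Set R)))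
    (hord : ∀ b, 1 ≤ b → 3 ^ b ∣ Nat.card O → 3 ^ b % r = 1 → 3 ^ b % q ≠ 1 % q ∧ 3 ^ b % q ≠ 3 % q) :
    ¬ 3 ∣ Nat.card O := by
  intro h3O
  have hr' : Fact r.Prime := ⟨hr⟩
  have hq' : Fact q.Prime := ⟨hq⟩
  have h3' : Fact (Nat.Prime 3) := ⟨Nat.prime_three⟩
  obtain ⟨S⟩ : Nonempty (Sylow 3 O) := inferInstance
  obtain ⟨y, hy, hyS⟩ := exists_normalizer hd O hrO S
  obtain ⟨w, hw, hwS⟩ := exists_normalizer hdq O hqO S
  set P : Subgroup R := (S : Subgroup O).map O.subtype with hP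
  have hPp : IsPGroup 3 P := S.isPGroup'.map _
  have hPc : Nat.card P = Nat.card S := by
    rw [hP, Subgroup.card_map_of_injective O.subtype_injective]
  obtain ⟨b, hb⟩ := IsPGroup.iff_card.1 hPp
  have hb1 : 1 ≤ b := by
    by_contra hb0
    have : b = 0 := by omega
    rw [this, pow_zero] at hb
    have h3 := S.card_eq_multiplicity
    rw [← hPc, hb] at h3
    have h4 : 1 ≤ (Nat.card O).factorization 3 := by
      have := (Nat.prime_three.pow_dvd_iff_le_factorization (k := 1) (n := Nat.card O) Nat.card_pos.ne').1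
        (by rwa [pow_one])
      exact this
    have h5 := Nat.one_lt_pow (a := 3) (n := (Nat.card O).factorization 3) (by omega) (by norm_num)
    omega
  have h1 : 3 ^ b % r = 1 := by
    by_contra hne
    obtain ⟨v, -, hv, hyv⟩ := exists_comm_of_normalizer hr Nat.prime_three hy hPp hyS (by rw [hb]; exact hne)
    exact hno _ (orderOf_mul_of_comm hr Nat.prime_three hr3 hy hv hyv)
  obtain ⟨h2, h3⟩ := hord b hb1 (by rw [← hb, hPc]; exact Subgroup.card_subgroup_dvd_card (S : Subgroup O)) h1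
  have h4 := card_inf_modEq hq hw hwS
  rw [hb] at h4
  have h5 : IsPGroup 3 ↥(P ⊓ centralizer ({w} : Set R)) := hPp.to_le inf_le_left
  obtain ⟨c, hc⟩ := IsPGroup.iff_card.1 h5
  rw [hc] at h4
  have h6 : c < 2 := by
    by_contra h7
    apply hC w hw
    refine dvd_trans ?_ (Subgroup.card_dvd_of_le (inf_le_right : P ⊓ centralizer ({w} : Set R) ≤ _))
    rw [hc]
    exact pow_dvd_pow 3 (by omega : 2 ≤ c)
  unfold Nat.ModEq at h4
  interval_cases c
  · exact h2 h4
  · exact h3 h4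

/-! ### tools for `Fi22` -/

/-- the factorisation of the order -/
def l : List (ℕ × ℕ) := [(2, 17), (3, 9), (5, 2), (7, 1), (11, 1), (13, 1)]

section

variable {T : Type u} [Group T] (F : Facts T) {R : Subgroup T}
include F

theorem dvd_n (R : Subgroup T) : Nat.card R ∣ 64561751654400 := by
  rw [← F.card]
  exact Subgroup.card_subgroup_dvd_card R

/-- `R / O` at the prime 13 -/
theorem thirteen [Finite T] {O : Subgroup R} [O.Normal] (h : 13 ∣ Nat.card R) (hO : ¬ 13 ∣ Nat.card O)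
    (hne : Nat.card (R ⧸ O) ≠ 13) : (Nat.card (R ⧸ O) / 13) % 13 ∣ 6 := by
  have := Fact.mk (show Nat.Prime 13 by norm_num)
  obtain ⟨x, hx⟩ := exists_prime_orderOf_dvd_card' 13 h
  have hxT : orderOf (x : T) = 13 := by rw [Subgroup.orderOf_coe, hx]
  have h1 := (card_norm_quot_dvd (by norm_num) hO hx).trans (card_norm_sub_dvd x)
  rw [F.n13 _ hxT] at h1
  have h2 := (card_cent_quot_dvd (by norm_num) hO hx).trans (card_cent_sub_dvd x)
  rw [F.c13 _ hxT] at h2
  have ho := orderOf_mk (by norm_num) hO hx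
  have hq : Nat.card (centralizer ({QuotientGroup.mk' O x} : Set (R ⧸ O))) = 13 := by
    refine Nat.dvd_antisymm h2 ?_
    have h3 := Subgroup.orderOf_dvd_natCard (centralizer ({QuotientGroup.mk' O x} : Set (R ⧸ O)))
      (mem_centralizer_singleton_iff.2 rfl : QuotientGroup.mk' O x ∈ _)
    rwa [ho] at h3
  have h13 : ¬ 13 ^ 2 ∣ Nat.card (R ⧸ O) := by
    intro h3
    have h4 : 13 ^ 2 ∣ 64561751654400 := by
      refine (h3.trans ?_).trans (dvd_n F R)
      rw [← card_quot_mul O]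
      exact dvd_mul_right _ _
    norm_num at h4
  have h3 := (card_norm_mod (by norm_num) h13 hne hq).1
  rw [h3, show (78 : ℕ) = 13 * 6 by norm_num] at h1
  exact Nat.dvd_of_mul_dvd_mul_left (by norm_num) h1

/-- all elements of order 11 of `R` have centralizer order `11 c`, the same `c` -/
theorem no22_of (h11 : 11 ∣ Nat.card R) (hm : ∀ c f : ℕ, c ∣ 2 → (f = 1 ∨ f = 2 ∨ f = 5) →
    f * c % 11 = Nat.card R / 11 % 11 → c = 1) (z : R) : orderOf z ≠ 22 := by
  intro hz
  have h1 : orderOf (z ^ 2) = 11 := by rw [orderOf_pow_of_dvd (by norm_num) (by rw [hz]; norm_num), hz]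
  obtain ⟨c, f, h2, h3, h4, h5⟩ := F.count11 h11 h1
  rw [hm c f h3 h4 h5] at h2
  have h6 : z ∈ centralizer ({z ^ 2} : Set R) := mem_centralizer_singleton_iff.2 ((Commute.refl z).pow_right 2).eq
  have h7 := Subgroup.orderOf_dvd_natCard _ h6
  rw [hz, h2] at h7
  norm_num at h7

theorem exists22_of [Finite T] (h11 : 11 ∣ Nat.card R) (hm : ∀ c f : ℕ, c ∣ 2 → (f = 1 ∨ f = 2 ∨ f = 5) →
    f * c % 11 = Nat.card R / 11 % 11 → c = 2) : ∃ z : R, orderOf z = 22 := by
  have := Fact.mk (show Nat.Prime 11 by norm_num)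
  obtain ⟨x, hx⟩ := exists_prime_orderOf_dvd_card' 11 h11
  obtain ⟨c, f, h2, h3, h4, h5⟩ := F.count11 h11 hx
  rw [hm c f h3 h4 h5] at h2
  obtain ⟨⟨y, hyC⟩, hy⟩ := exists_prime_orderOf_dvd_card' (G := centralizer ({x} : Set R)) 2 (by rw [h2]; norm_num)
  rw [Subgroup.orderOf_mk] at hy
  exact ⟨_, orderOf_mul_of_comm (r := 11) (s := 2) (by norm_num) (by norm_num) (by norm_num) hx hy
    (mem_centralizer_singleton_iff.1 hyC).symm⟩

theorem false_of_count11 [Finite T] (h11 : 11 ∣ Nat.card R) (hm : ∀ c f : ℕ, c ∣ 2 → (f = 1 ∨ f = 2 ∨ f = 5) →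
    f * c % 11 ≠ Nat.card R / 11 % 11) : False := by
  have := Fact.mk (show Nat.Prime 11 by norm_num)
  obtain ⟨x, hx⟩ := exists_prime_orderOf_dvd_card' 11 h11
  obtain ⟨c, f, h2, h3, h4, h5⟩ := F.count11 h11 hx
  exact hm c f h3 h4 h5

theorem noR_7 {k : ℕ} (hd : 7 ∣ k) (hn : ¬ k ∣ 42) (z : R) : orderOf z ≠ k := SitA.noR (F.no_7 hd hn) z
theorem noR_11 {k : ℕ} (hd : 11 ∣ k) (hn : ¬ k ∣ 22) (z : R) : orderOf z ≠ k := SitA.noR (F.no_11 hd hn) z
theorem noR_13 {k : ℕ} (hd : 13 ∣ k) (hn : ¬ k ∣ 13) (z : R) : orderOf z ≠ k := SitA.noR (F.no_13 hd hn) z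

theorem no_13_mul {s : ℕ} (hs : s.Prime) (z : T) : orderOf z ≠ 13 * s := by
  refine F.no_13 (dvd_mul_right _ _) (fun h => ?_) z
  have h1 : 13 * s ∣ 13 * 1 := by rwa [mul_one]
  exact hs.one_lt.ne' (Nat.dvd_one.1 (Nat.dvd_of_mul_dvd_mul_left (by norm_num) h1))

end

end Cfsg.Agent.H870.Der.FiTwo
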