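import Cfsg.Agent.H870.Der.Tool3
import Cfsg.Agent.H968.Tor.FiFour
import Cfsg.Agent.H961.SepFi23
import Cfsg.Agent.H257.El.Row.Fi24
import Cfsg.Agent.H729.PairBase
import Cfsg.Agent.S2080

/-!
# S3500, S3502: the row of `Fi24'` (helper870)

Every proper subgroup misses three of the primes 11 (with the orders 11, 22), 13, 17, 23, 29, or is isomorphic to `Fi23`.
-/

set_option autoImplicit false

namespace Cfsg.Agent.H870.Der.FiTF

open Subgroup Cfsg Cfsg.Agent.H439.Der Cfsg.Agent.H257.El Cfsg.Agent.OrdDiv Cfsg.Agent.H870.Der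

universe u

/-- the factorisation of the order -/
def l : List (ℕ × ℕ) := [(2, 21), (3, 16), (5, 2), (7, 3), (11, 1), (13, 1), (17, 1), (23, 1), (29, 1)]

/-! ### element orders of the model -/

section model

open Cfsg.Spor (Fi24)

theorem mem_of_odd {G : Type*} [Group G] {N : Subgroup G} (hN : N.index = 2) {x : G} {n : ℕ}
    (hx : x ^ (2 * n + 1) = 1) : x ∈ N := by
  have h1 : x * x ∈ N := (Subgroup.mul_mem_iff_of_index_two hN).2 Iff.rfl
  have h2 : (x * x) ^ n * x ∈ N := by
    rw [← pow_two, ← pow_mul, ← pow_succ, hx]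
    exact one_mem _
  exact ((Subgroup.mul_mem_iff_of_index_two hN).1 h2).1 (pow_mem h1 n)

/-- `|C(x)| = 264` for an element of order 11 of `Fi24` -/
theorem three_dvd : 3 ∣ Nat.card (centralizer ({H843.D11.D.x} : Set Fi24)) := by
  have hfin := R08.FiTwentyFour.finite_Fi24
  have h1 := H256.Sep.FiData.cent11
  rw [H729.PairBase.centralizer_zpowers_eq] at h1
  have h2 := card_conjPow_mul H843.D11.D.x
  have hN : Nat.card (normalizer (zpowers H843.D11.D.x : Set Fi24)) = 2640 := H843.D11.main
  rw [hN] at h2
  have hle : Nat.card (conjPow H843.D11.D.x) ≤ 10 := by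
    have hsub : conjPow H843.D11.D.x ⊆ ((zpowers H843.D11.D.x : Subgroup Fi24) : Set Fi24) \ {1} := by
      rintro y ⟨hy, g, hg⟩
      refine ⟨hy, ?_⟩
      rintro rfl
      have h3 : H843.D11.D.x = 1 := by
        have h4 : H843.D11.D.x = g⁻¹ * 1 * g := by rw [← hg]; group
        rw [h4]; group
      have h4 := H843.D11.order
      rw [h3, orderOf_one] at h4
      exact absurd h4 (by norm_num)
    rw [Nat.card_coe_set_eq]
    refine (Set.ncard_le_ncard hsub (Set.toFinite _)).trans ?_
    rw [Set.ncard_sdiff_singleton_of_mem (one_mem _), ← Nat.card_coe_set_eq]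
    have h3 : Nat.card ((zpowers H843.D11.D.x : Subgroup Fi24) : Set Fi24) = 11 := by
      have h4 := Nat.card_zpowers H843.D11.D.x
      rw [H843.D11.order] at h4
      exact h4
    rw [h3]
  have hC : Nat.card (centralizer ({H843.D11.D.x} : Set Fi24)) ≤ 264 := Nat.le_of_dvd (by norm_num) h1
  have h3 : Nat.card (centralizer ({H843.D11.D.x} : Set Fi24)) = 264 := by
    by_contra hne
    have h4 : Nat.card (centralizer ({H843.D11.D.x} : Set Fi24)) ≤ 263 := by omega
    have h5 := Nat.mul_le_mul hle h4
    omega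
  rw [h3]
  norm_num

/-- an element of order 33 -/
theorem exists33 : ∃ x : Spor.Fi24', orderOf x = 33 := by
  have hfin := R08.FiTwentyFour.finite_Fi24
  have := Fact.mk (show Nat.Prime 3 by norm_num)
  obtain ⟨⟨y, hyC⟩, hy⟩ := exists_prime_orderOf_dvd_card' 3 three_dvd
  rw [Subgroup.orderOf_mk] at hy
  have h1 := orderOf_mul_of_comm (r := 11) (s := 3) (by norm_num) (by norm_num) (by norm_num) H843.D11.order hy
    (mem_centralizer_singleton_iff.1 hyC).symm
  have h2 : H843.D11.D.x * y ∈ commutator Fi24 := by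
    refine mem_of_odd (n := 16) R08.FiTwentyFour.index_commutator ?_
    have h3 := pow_orderOf_eq_one (H843.D11.D.x * y)
    rwa [h1] at h3
  exact ⟨⟨_, h2⟩, (Subgroup.orderOf_mk _ h2).trans h1⟩

end model

section

variable {T : Type u} [Group T]

theorem card_fi24 (h : Spor.IsoFi24' T) : Nat.card T = 1255205709190661721292800 := NotCT.Orders.fi24 h

theorem noOrd17 (h : Spor.IsoFi24' T) {s : ℕ} (hs : s.Prime) (hne : 17 ≠ s) (z : T) : orderOf z ≠ 17 * s := by
  obtain ⟨e⟩ := h
  have := H968.Tor.finite24
  exact noOrd_congr e (noOrd_of_cent (by norm_num) (fun x hx => H968.Tor.card_cent24 (by norm_num) (by norm_num)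
    (fun R hR => (H256.Sep.FiData.data17 hR).1) hx) hs hne) z

theorem noOrd23 (h : Spor.IsoFi24' T) {s : ℕ} (hs : s.Prime) (hne : 23 ≠ s) (z : T) : orderOf z ≠ 23 * s := by
  obtain ⟨e⟩ := h
  have := H968.Tor.finite24
  exact noOrd_congr e (noOrd_of_cent (by norm_num) (fun x hx => H968.Tor.card_cent24 (by norm_num) (by norm_num)
    (fun R hR => (H256.Sep.FiData.data23 hR).1) hx) hs hne) z

theorem noOrd29 (h : Spor.IsoFi24' T) {s : ℕ} (hs : s.Prime) (hne : 29 ≠ s) (z : T) : orderOf z ≠ 29 * s :=
  Row.noOrd_fi24 h hs hne.symm z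

/-- there are elements of order 22 -/
theorem not_sc11 (h : Spor.IsoFi24' T) : ¬ SC T 11 := by
  have hc := card_fi24 h
  have : Finite T := Nat.finite_of_card_ne_zero (by rw [hc]; norm_num)
  have := Fact.mk (show Nat.Prime 11 by norm_num)
  obtain ⟨e⟩ := h
  have hf := H968.Tor.finite24
  intro hs
  refine absurd (hs.congr e) ?_
  obtain ⟨x, hx⟩ := exists_prime_orderOf_dvd_card' (G := Spor.Fi24') 11 (by
    rw [← Nat.card_congr e.toEquiv, hc]; norm_num)
  obtain ⟨a, ha, hxa⟩ := H968.Tor.fx_ne (p := 11) (by norm_num) (by norm_num) (x := (x : Spor.Fi24))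
    (by rw [Subgroup.orderOf_coe]; exact hx)
  obtain ⟨z, hz, hzx⟩ := H968.Tor.ev_of_fix (p := 11) (by norm_num) (by norm_num) hx ha hxa
  exact not_SC_of_commute (by norm_num) Nat.prime_two (by norm_num) hx hz hzx.symm

/-- `Fi23` has no elements of order 33 -/
theorem no33 {S : Type*} [Group S] (h : Spor.IsoFi23 S) (z : S) : orderOf z ≠ 33 := by
  obtain ⟨e⟩ := h
  intro hz
  have hfin : Finite Spor.Fi23 := H713.Spor.Fi23.finite_fi23
  set y : Spor.Fi23 := e z with hy
  have ho : orderOf y = 33 := by rw [hy, MulEquiv.orderOf_eq, hz]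
  have h11 : orderOf (y ^ 3) = 11 := by rw [orderOf_pow_of_dvd (by norm_num) (by rw [ho]; norm_num), ho]
  have h1 := (H961.SepFi23.data11 (R := zpowers (y ^ 3)) (by rw [Nat.card_zpowers, h11])).1
  rw [H729.PairBase.centralizer_zpowers_eq] at h1
  have h2 : y ∈ centralizer ({y ^ 3} : Set Spor.Fi23) :=
    mem_centralizer_singleton_iff.2 ((Commute.refl y).pow_right 3).eq
  have h3 := Subgroup.orderOf_dvd_natCard _ h2
  rw [ho] at h3
  exact absurd (h3.trans h1) (by norm_num)

/-- the core if a prime `r` is adjacent to no prime divisor of its order -/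
theorem not_dvd_of_normal {R : Type*} [Group R] [Finite R] {O : Subgroup R} [O.Normal] {r s : ℕ} (hr : r.Prime)
    (hs : s.Prime) (hrs : r ≠ s) (hd : r ∣ Nat.card R) (hrO : ¬ r ∣ Nat.card O) (hno : ∀ z : R, orderOf z ≠ r * s)
    (hord : ∀ b, 1 ≤ b → s ^ b ∣ Nat.card O → s ^ b % r ≠ 1) : ¬ s ∣ Nat.card O := by
  intro hsO
  have hr' : Fact r.Prime := ⟨hr⟩
  have hs' : Fact s.Prime := ⟨hs⟩
  obtain ⟨S⟩ : Nonempty (Sylow s O) := inferInstance
  obtain ⟨y, hy, hyS⟩ := exists_normalizer hd O hrO S
  set P : Subgroup R := (S : Subgroup O).map O.subtype with hP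
  have hPp : IsPGroup s P := S.isPGroup'.map _
  obtain ⟨b, hb⟩ := IsPGroup.iff_card.1 hPp
  have hPc : Nat.card P = Nat.card S := by
    rw [hP, Subgroup.card_map_of_injective O.subtype_injective]
  have hb1 : 1 ≤ b := by
    by_contra hb0
    have : b = 0 := by omega
    rw [this, pow_zero] at hb
    have h3 := S.card_eq_multiplicity
    rw [← hPc, hb] at h3
    have h4 : 1 ≤ (Nat.card O).factorization s := by
      have := (hs.pow_dvd_iff_le_factorization (k := 1) (n := Nat.card O) Nat.card_pos.ne').1 (by rwa [pow_one])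
      exact this
    have h5 := Nat.one_lt_pow (n := (Nat.card O).factorization s) (by omega) hs.one_lt
    omega
  have h1 := hord b hb1 (by rw [← hb, hPc]; exact Subgroup.card_subgroup_dvd_card (S : Subgroup O))
  obtain ⟨w, -, hw, hyw⟩ := exists_comm_of_normalizer hr hs hy hPp hyS (by rw [hb]; exact h1)
  exact hno _ (orderOf_mul_of_comm hr hs hrs hy hw hyw)

/-- a proper subgroup with `Fi23` at the top is `Fi23` -/
theorem two_of_fi23 (h : Spor.IsoFi24' T) {R : Subgroup T} {O : Subgroup R} [O.Normal] {N : Subgroup (R ⧸ O)}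
    (ht : Top R 17 O N) (hr : Spor.IsoFi23 N) : Two T R ∧ Nat.card R = 4089470473293004800 := by
  have hc := card_fi24 h
  have : Finite T := Nat.finite_of_card_ne_zero (by rw [hc]; norm_num)
  have hN := ht.normal
  have hNc : Nat.card N = 4089470473293004800 := NotCT.Orders.fi23 hr
  have hna : ¬ ∀ a b : N, a * b = b * a := by
    intro hcm
    have h1 := ht.card_of_comm hcm
    rw [hNc] at h1
    exact absurd h1 (by norm_num)
  have hOut : Nat.card (Cfsg.Out N) = 1 := by
    obtain ⟨e⟩ := hr
    rw [card_out_congr e, S2080.result]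
  have hNt := eq_top_of_out ht hna hOut
  have hq : Nat.card (R ⧸ O) = 4089470473293004800 := by rw [← hNc, hNt, Subgroup.card_top]
  have hmul := card_quot_mul O
  have hOd : Nat.card O ∣ 306936 := by
    have h1 : Nat.card R ∣ 1255205709190661721292800 := by rw [← hc]; exact Subgroup.card_subgroup_dvd_card R
    rw [← hmul, hq, show (1255205709190661721292800 : ℕ) = 4089470473293004800 * 306936 by norm_num] at h1
    exact Nat.dvd_of_mul_dvd_mul_left (by norm_num) h1
  have hO1 : ∀ s : ℕ, s.Prime → ¬ s ∣ Nat.card O := by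
    intro s hs
    have hrs : 17 ≠ s ∨ 17 = s := by tauto
    rcases hrs with hrs | rfl
    swap
    · exact ht.core
    refine not_dvd_of_normal ht.prime hs hrs ht.dvdR ht.core (SitA.noR (noOrd17 h hs hrs)) fun b hb hbd => ?_
    have hbd := hbd.trans hOd
    have hs1 : s ∣ 306936 := (dvd_pow_self s (by omega)).trans hbd
    have hs2 : s ∈ Nat.primeFactors 306936 := Nat.mem_primeFactors.2 ⟨hs, hs1, by norm_num⟩
    have hs3 : Nat.primeFactors 306936 = {2, 3, 7, 29} := by
      have : (306936 : ℕ) = 2 ^ 3 * 3 ^ 3 * 7 ^ 2 * 29 := by norm_num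
      rw [this, Nat.primeFactors_mul (by norm_num) (by norm_num), Nat.primeFactors_mul (by norm_num) (by norm_num),
        Nat.primeFactors_mul (by norm_num) (by norm_num), Nat.primeFactors_prime_pow (by norm_num) (by norm_num),
        Nat.primeFactors_prime_pow (by norm_num) (by norm_num), Nat.primeFactors_prime_pow (by norm_num) (by norm_num),
        Nat.Prime.primeFactors (by norm_num)]
      rfl
    rw [hs3] at hs2
    simp only [Finset.mem_insert, Finset.mem_singleton] at hs2
    have hb4 : b < 4 := by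
      by_contra h4
      have h5 : s ^ 4 ∣ 306936 := (pow_dvd_pow s (by omega)).trans hbd
      rcases hs2 with rfl | rfl | rfl | rfl <;> norm_num at h5
    interval_cases b <;> rcases hs2 with rfl | rfl | rfl | rfl <;> norm_num
  have hO0 := eq_bot_of_not_dvd hO1
  have hRc : Nat.card R = 4089470473293004800 := by
    rw [← hmul, hq, hO0, Subgroup.card_bot, mul_one]
  refine ⟨?_, hRc⟩
  have hT33 : ∃ x : T, orderOf x = 33 := by
    obtain ⟨e⟩ := h
    obtain ⟨x, hx⟩ := exists33
    exact ⟨e.symm x, by rw [MulEquiv.orderOf_eq, hx]⟩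
  have hT29 : ∃ x : T, orderOf x = 29 := by
    have := Fact.mk (show Nat.Prime 29 by norm_num)
    exact exists_prime_orderOf_dvd_card' 29 (by rw [hc]; norm_num)
  refine two_of_orders (a := 29) (b := 33) (by norm_num) hT29 hT33 ?_
    (not_order ht hna hOut hO1 (no33 hr))
  intro m hm
  have h1 := orderOf_dvd_natCard m
  rw [hm, hRc] at h1
  exact absurd h1 (by norm_num)

/-- **proper subgroups of `Fi24'`** -/
theorem three_or (tab : OrderTable.{u}) (known : Known.{u}) (h : Spor.IsoFi24' T) {R : Subgroup T} (hR : R ≠ ⊤) :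
    Three T R ∨ (Two T R ∧ Nat.card R = 4089470473293004800) := by
  have hc := card_fi24 h
  have : Finite T := Nat.finite_of_card_ne_zero (by rw [hc]; norm_num)
  have hd : ∀ p : ℕ, p ∣ 1255205709190661721292800 → p ∣ Nat.card T := fun p hp => by rwa [hc]
  by_cases h29 : 29 ∣ Nat.card R
  · left
    have key : ∀ s : ℕ, s.Prime → 29 ≠ s → okPr 1255205709190661721292800 l 29 s = true → ¬ s ∣ Nat.card R :=
      fun s hs hne hok => not_dvd_of_pair (l := l) tab known hc (by norm_num) hs (noOrd29 h hs hne) hok hR h29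
    exact Three.of_three_primes (u := 11) (v := 13) (w := 17) (by norm_num) (by norm_num) (by norm_num) (by norm_num)
      (by norm_num) (by norm_num) (hd _ (by norm_num)) (hd _ (by norm_num)) (hd _ (by norm_num))
      (key 11 (by norm_num) (by norm_num) (by decide +kernel)) (key 13 (by norm_num) (by norm_num) (by decide +kernel))
      (key 17 (by norm_num) (by norm_num) (by decide +kernel))
  by_cases h11 : 11 ∣ Nat.card R
  swap
  · left
    exact Three.of_two_primes (v := 11) (w := 29) (by norm_num) (by norm_num) (by norm_num) (hd _ (by norm_num)) h11 h29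
      (not_sc11 h)
  by_cases h17 : 17 ∣ Nat.card R
  · -- the top at 17
    have S : SitB T 1255205709190661721292800 l 17 R :=
      ⟨tab, known, hc, by decide +kernel, by norm_num, h17, by norm_num, hR⟩
    obtain ⟨O, hO, N, ht, g, hg, hr, hgc⟩ := S.exists_name (s := 11) (by norm_num) (by norm_num)
      (noOrd17 h (by norm_num) (by norm_num)) (by decide +kernel) h11
    have hs : surv 1255205709190661721292800 l 17 [11] = [.ominus 5 2, .fi23] := by decide +kernel
    rw [hs] at hg
    simp only [List.mem_cons, List.not_mem_nil, or_false] at hg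
    rcases hg with rfl | rfl
    · left
      have h13 : ¬ 13 ∣ Nat.card R := fun hd' => by
        have h1 := S.dvd_simple ht (s := 13) (by norm_num) (noOrd17 h (by norm_num) (by norm_num)) (by decide +kernel) hd'
        rw [hgc] at h1
        exact absurd h1 (by decide +kernel)
      have h23 : ¬ 23 ∣ Nat.card R := fun hd' => by
        have h1 := S.dvd_simple ht (s := 23) (by norm_num) (noOrd17 h (by norm_num) (by norm_num)) (by decide +kernel) hd'
        rw [hgc] at h1
        exact absurd h1 (by decide +kernel)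
      exact Three.of_three_primes (u := 13) (v := 23) (w := 29) (by norm_num) (by norm_num) (by norm_num) (by norm_num)
        (by norm_num) (by norm_num) (hd _ (by norm_num)) (hd _ (by norm_num)) (hd _ (by norm_num)) h13 h23 h29
    · exact Or.inr (two_of_fi23 h ht hr)
  · left
    by_cases h23 : 23 ∣ Nat.card R
    swap
    · exact Three.of_three_primes (u := 17) (v := 23) (w := 29) (by norm_num) (by norm_num) (by norm_num) (by norm_num)
        (by norm_num) (by norm_num) (hd _ (by norm_num)) (hd _ (by norm_num)) (hd _ (by norm_num)) h17 h23 h29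
    have h13 : ¬ 13 ∣ Nat.card R := by
      intro h13
      have S : SitB T 1255205709190661721292800 l 23 R :=
        ⟨tab, known, hc, by decide +kernel, by norm_num, h23, by norm_num, hR⟩
      obtain ⟨O, hO, N, ht, g, hg, hr, hgc⟩ := S.exists_name (s := 13) (by norm_num) (by norm_num)
        (noOrd23 h (by norm_num) (by norm_num)) (by decide +kernel) h13
      have hs : surv 1255205709190661721292800 l 23 [13] = [.fi23] := by decide +kernel
      rw [hs] at hg
      simp only [List.mem_cons, List.not_mem_nil, or_false] at hg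
      subst hg
      apply h17
      have h1 : Nat.card N ∣ Nat.card R := by
        refine (Subgroup.card_subgroup_dvd_card N).trans ?_
        rw [← card_quot_mul O]
        exact dvd_mul_right _ _
      refine dvd_trans ?_ h1
      rw [hgc]
      decide +kernel
    exact Three.of_three_primes (u := 13) (v := 17) (w := 29) (by norm_num) (by norm_num) (by norm_num) (by norm_num)
      (by norm_num) (by norm_num) (hd _ (by norm_num)) (hd _ (by norm_num)) (hd _ (by norm_num)) h13 h17 h29

/-- **S3502 for `Fi24'`** -/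
theorem rowS_fi24p (tab : OrderTable.{u}) (known : Known.{u}) (h : Spor.IsoFi24' T) : RowS T := by
  have hc := card_fi24 h
  have : Finite T := Nat.finite_of_card_ne_zero (by rw [hc]; norm_num)
  refine ⟨fun M hM => ?_, fun R hR hRc => ?_⟩
  · rcases three_or tab known h hM.1 with h1 | ⟨h1, -⟩
    · exact h1.two
    · exact h1
  · rcases eq_top_or_exists_le_coatom R with h1 | ⟨M, hM, h1⟩
    · exact absurd h1 hR
    rcases three_or tab known h hM.1 with h2 | ⟨-, h2⟩
    · exact h2.mono h1
    · rcases three_or tab known h hR with h3 | ⟨-, h3⟩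
      · exact h3
      · exfalso
        apply hRc
        rw [Subgroup.eq_of_le_of_card_ge h1 (by rw [h2, h3])]
        exact hM

/-- **S3500 for `Fi24'`** -/
theorem row_fi24p (tab : OrderTable.{u}) (known : Known.{u}) (h : Spor.IsoFi24' T) : Row T :=
  (rowS_fi24p tab known h).row

end

end Cfsg.Agent.H870.Der.FiTF
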