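import Cfsg.Agent.H870.Der.FiTwoD

/-!
# S3500, S3502: the row of `Fi22` (helper870)

`rowS_fi22`, `row_fi22`.
-/

set_option autoImplicit false

namespace Cfsg.Agent.H870.Der.FiTwo

open Subgroup Cfsg Cfsg.Agent.H439.Der Cfsg.Agent.H257.El Cfsg.Agent.OrdDiv Cfsg.Agent.H870.Der
open Cfsg.Agent.H713.Count Cfsg.Agent.H713 Cfsg.Agent.H870.Der.Cop

universe u

section

variable {T : Type u} [Group T]

theorem two_of {R : Subgroup T} {a b : ℕ} (hab : a ≠ b) (hx : ∃ x : T, orderOf x = a) (hy : ∃ x : T, orderOf x = b)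
    (ha : ∀ m : R, orderOf m ≠ a) (hb : ∀ m : R, orderOf m ≠ b) : Two T R := two_of_orders hab hx hy ha hb

theorem three_of {R : Subgroup T} {a b c : ℕ} (hab : a ≠ b) (hac : a ≠ c) (hbc : b ≠ c) (hx : ∃ x : T, orderOf x = a)
    (hy : ∃ x : T, orderOf x = b) (hz : ∃ x : T, orderOf x = c) (ha : ∀ m : R, orderOf m ≠ a)
    (hb : ∀ m : R, orderOf m ≠ b) (hc : ∀ m : R, orderOf m ≠ c) : Three T R := by
  obtain ⟨x, hx⟩ := hx
  obtain ⟨y, hy⟩ := hy
  obtain ⟨z, hz⟩ := hz
  refine Three.of_orders hab hac hbc hx hy hz (fun m hm h => ha ⟨m, hm⟩ ?_) (fun m hm h => hb ⟨m, hm⟩ ?_)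
    (fun m hm h => hc ⟨m, hm⟩ ?_)
  · rw [Subgroup.orderOf_mk, h]
  · rw [Subgroup.orderOf_mk, h]
  · rw [Subgroup.orderOf_mk, h]

theorem no_of_not_dvd [Finite T] {R : Subgroup T} {p : ℕ} (h : ¬ p ∣ Nat.card R) (m : R) : orderOf m ≠ p := fun hm =>
  h (hm ▸ orderOf_dvd_natCard m)

end

section

variable {T : Type u} [Group T] [Finite T] (tab : OrderTable.{u}) (known : Known.{u}) (F : Facts T) {R : Subgroup T}
include tab known F

/-- **subgroups of order divisible by 7 and 11** -/
theorem typeC (hR : R ≠ ⊤) (h11 : 11 ∣ Nat.card R) (h7 : 7 ∣ Nat.card R) :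
    Three T R ∨ (Two T R ∧ Nat.card R = 18393661440) := by
  have h13 := not_both tab known F hR h11
  have S : SitB T 64561751654400 l 11 R := ⟨tab, known, F.card, by decide +kernel, by norm_num, h11, by norm_num, hR⟩
  obtain ⟨O, hO, N, ht, g, hg, hr, hgc⟩ := S.exists_name (s := 7) (by norm_num) (by norm_num)
    (F.no_11 (by norm_num) (by norm_num)) (by decide +kernel) h7
  have hs : surv 64561751654400 l 11 [7] = [.alt 11, .alt 12, .alt 13, .psu 6 2, .m22, .suz] := by decide +kernel
  rw [hs] at hg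
  have hN := ht.normal
  have hRn := dvd_n F R
  have hcard := card_eq O N
  have hfin : Finite R := inferInstance
  have no5 : ∀ z : R, orderOf z ≠ 11 * 5 := noR_11 F (by norm_num) (by norm_num)
  have no3 : ∀ z : R, orderOf z ≠ 11 * 3 := noR_11 F (by norm_num) (by norm_num)
  have no7 : ∀ z : R, orderOf z ≠ 11 * 7 := noR_11 F (by norm_num) (by norm_num)
  have hOn : ∀ b s, s ^ b ∣ Nat.card O → s ^ b ∣ 64561751654400 := fun b s h =>
    (h.trans (Subgroup.card_subgroup_dvd_card O)).trans hRn
  have h5O : ¬ 5 ∣ Nat.card O := by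
    refine not_dvd_core' ht.prime (by norm_num) (by norm_num) ht.dvdR ht.core no5 fun b hb hbd => ?_
    have hb3 : b < 3 := by
      by_contra h4
      have h5 := (pow_dvd_pow 5 (show 3 ≤ b by omega)).trans (hOn _ _ hbd)
      norm_num at h5
    interval_cases b <;> norm_num
  have h7O : ¬ 7 ∣ Nat.card O := by
    refine not_dvd_core' ht.prime (by norm_num) (by norm_num) ht.dvdR ht.core no7 fun b hb hbd => ?_
    have hb3 : b < 2 := by
      by_contra h4
      have h5 := (pow_dvd_pow 7 (show 2 ≤ b by omega)).trans (hOn _ _ hbd)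
      norm_num at h5
    interval_cases b
    norm_num
  have h3O : ¬ 3 ∣ Nat.card O := by
    refine not_three_dvd (r := 11) (q := 7) (by norm_num) (by norm_num) (by norm_num) h11 h7 ht.core h7O no3
      (fun y hy h9 => ?_) (fun b hb hbd => ?_)
    · have h1 := h9.trans (card_cent_sub_dvd y)
      rw [F.c7 _ (by rw [Subgroup.orderOf_coe, hy])] at h1
      norm_num at h1
    · have hb3 : b < 10 := by
        by_contra h4
        have h5 := (pow_dvd_pow 3 (show 10 ≤ b by omega)).trans (hOn _ _ hbd)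
        norm_num at h5
      interval_cases b <;> norm_num
  have h3i : ¬ 3 ∣ N.index := ht.not_dvd_index (by norm_num) (by norm_num) no3 (by norm_num)
  have h7i : ¬ 7 ∣ N.index := ht.not_dvd_index (by norm_num) (by norm_num) no7 (by norm_num)
  have cop : ∀ {m : ℕ}, ¬ 3 ∣ m → ¬ 7 ∣ m → Nat.Coprime 21 m := fun h3 h7 =>
    Nat.Coprime.mul_left (m := 3) (n := 7) ((Nat.Prime.coprime_iff_not_dvd (by norm_num)).2 h3)
      ((Nat.Prime.coprime_iff_not_dvd (by norm_num)).2 h7)
  have no21 : (∀ z : N, orderOf z ≠ 21) → ∀ z : R, orderOf z ≠ 21 := by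
    intro h z hz
    obtain ⟨y, hy⟩ := exists_of_top (O := O) (N := N) (cop h3O h7O) (cop h3i h7i) hz
    exact h y hy
  have o13 := F.ord (p := 13) (by norm_num) (by norm_num)
  have no13 : ∀ m : R, orderOf m ≠ 13 := no_of_not_dvd h13
  have bad13 : 13 ∣ Nat.card N → False := fun h => h13 (h.trans (by rw [hcard]; exact dvd_mul_right _ _))
  simp only [List.mem_cons, List.not_mem_nil, or_false] at hg
  rcases hg with rfl | rfl | rfl | rfl | rfl | rfl
  · -- `A11`
    exfalso
    obtain ⟨x, hx, h4⟩ := alt11 hr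
    have hx' : orderOf (x : R ⧸ O) = 7 := by rw [Subgroup.orderOf_coe, hx]
    obtain ⟨y, hy, hyx⟩ := exists_lift_eq (by norm_num) h7O hx'
    have h5 := (card_cent_quot_dvd (by norm_num) h7O hy).trans (card_cent_sub_dvd y)
    rw [hyx, F.c7 _ (by rw [Subgroup.orderOf_coe, hy])] at h5
    have h6 := (h4.trans (card_cent_sub_dvd x)).trans h5
    norm_num at h6
  · exfalso
    obtain ⟨z, hz⟩ := exists_of_N (alt35 (n := 12) (by norm_num) hr)
    exact noR_7 F (k := 35) (by norm_num) (by norm_num) z hz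
  · exact absurd (by rw [hgc]; decide +kernel) bad13
  · -- `U6(2)`
    have hm : Nat.card N = 9196830720 := by rw [hgc]; decide +kernel
    set k := Nat.card O * N.index with hk
    have hkd : k ∣ 7020 := by
      rw [hcard, hm, show (64561751654400 : ℕ) = 9196830720 * 7020 by norm_num] at hRn
      exact Nat.dvd_of_mul_dvd_mul_left (by norm_num) hRn
    have h13k : ¬ 13 ∣ k := fun h => h13 (h.trans (by rw [hcard]; exact dvd_mul_left _ _))
    have h3k : ¬ 3 ∣ k := by
      intro h
      rcases (Nat.prime_three.dvd_mul).1 h with h | h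
      · exact h3O h
      · exact h3i h
    have hk20 : k ∣ 20 := by
      have c3 : Nat.Coprime k (3 ^ 3 * 13) :=
        (((Nat.Prime.coprime_iff_not_dvd (by norm_num)).2 h3k).symm.pow_right 3).mul_right
          ((Nat.Prime.coprime_iff_not_dvd (by norm_num)).2 h13k).symm
      exact c3.dvd_of_dvd_mul_left (by rw [show 3 ^ 3 * 13 * 20 = 7020 by norm_num]; exact hkd)
    rw [hm] at hcard
    have h21 := no21 (u6_no21 hr)
    by_cases h2 : k = 2
    · right
      refine ⟨two_of (a := 13) (b := 21) (by norm_num) o13 F.o21 no13 h21, ?_⟩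
      rw [hcard, h2]
    · left
      have hk0 : k ≤ 20 := Nat.le_of_dvd (by norm_num) hk20
      have h22 : ∀ z : R, orderOf z ≠ 22 := by
        refine no22_of F h11 fun c f hc hf h => ?_
        rw [hcard] at h
        clear_value k
        rcases (Nat.dvd_prime Nat.prime_two).1 hc with rfl | rfl
        · rfl
        · exfalso
          interval_cases k <;> omega
      exact three_of (a := 13) (b := 21) (c := 22) (by norm_num) (by norm_num) (by norm_num) o13 F.o21 F.o22 no13 h21 h22
  · -- `M22`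
    left
    have h21 := no21 (MTF.not_m22 hr)
    have hm : Nat.card (Cfsg.Out N) = 2 := by
      obtain ⟨e⟩ := hr
      rw [card_out_congr e, S2062.result]
    have hna := SitA.not_comm_of_dvd ht (s := 7) (by norm_num) (by norm_num) (by rw [hgc]; decide +kernel)
    have hi := index_dvd_out ht hna
    rw [hm] at hi
    have h15 : ∀ z : R, orderOf z ≠ 15 := by
      intro z hz
      have c15 : ∀ {m : ℕ}, ¬ 3 ∣ m → ¬ 5 ∣ m → Nat.Coprime 15 m := fun h3 h5 =>
        Nat.Coprime.mul_left (m := 3) (n := 5) ((Nat.Prime.coprime_iff_not_dvd (by norm_num)).2 h3)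
          ((Nat.Prime.coprime_iff_not_dvd (by norm_num)).2 h5)
      obtain ⟨y, hy⟩ := exists_of_top (O := O) (N := N) (c15 h3O h5O)
        (c15 h3i fun h => absurd (h.trans hi) (by norm_num)) hz
      exact m22_no15 hr y hy
    exact three_of (a := 13) (b := 21) (c := 15) (by norm_num) (by norm_num) (by norm_num) o13 F.o21 F.o15 no13 h21 h15
  · exact absurd (by rw [hgc]; decide +kernel) bad13

/-- **proper subgroups of `Fi22`** -/
theorem three_or (hR : R ≠ ⊤) : Three T R ∨ (Two T R ∧ (Nat.card R = 4585351680 ∨ Nat.card R = 251596800 ∨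
    Nat.card R = 18393661440)) := by
  by_cases h11 : 11 ∣ Nat.card R
  · by_cases h7 : 7 ∣ Nat.card R
    · rcases typeC tab known F hR h11 h7 with h | ⟨h, h1⟩
      · exact Or.inl h
      · exact Or.inr ⟨h, Or.inr (Or.inr h1)⟩
    · left
      exact Three.of_two_primes (v := 7) (w := 13) (by norm_num) (by norm_num) (by norm_num) (F.dvd (by norm_num)) h7
        (not_both tab known F hR h11) F.not_sc7
  have key : ∀ w : ℕ, w.Prime → 11 ≠ w → w ∣ 64561751654400 → ¬ w ∣ Nat.card R → Three T R := fun w hw hne hd hwR =>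
    Three.of_two_primes (v := 11) (w := w) (by norm_num) hw hne (F.dvd hd) h11 hwR F.not_sc11
  by_cases h13 : 13 ∣ Nat.card R
  swap
  · exact Or.inl (key 13 (by norm_num) (by norm_num) (by norm_num) h13)
  by_cases h7 : 7 ∣ Nat.card R
  swap
  · exact Or.inl (key 7 (by norm_num) (by norm_num) (by norm_num) h7)
  by_cases h5 : 5 ∣ Nat.card R
  swap
  · exact Or.inl (key 5 (by norm_num) (by norm_num) (by norm_num) h5)
  right
  refine ⟨Two.of_not_dvd h11 F.not_sc11, ?_⟩
  rcases typeA tab known F hR h13 h7 h5 h11 with h | h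
  · exact Or.inl h
  · exact Or.inr (Or.inl h)

end

section

variable {T : Type u} [Group T]

/-- **S3502 for `Fi22`** -/
theorem rowS_fi22 (tab : OrderTable.{u}) (known : Known.{u}) (h : Spor.IsoFi22 T) : RowS T := by
  have F := facts h
  have := F.finite
  refine ⟨fun M hM => ?_, fun R hR hRc => ?_⟩
  · rcases three_or tab known F hM.1 with h1 | ⟨h1, -⟩
    · exact h1.two
    · exact h1
  · rcases eq_top_or_exists_le_coatom R with h1 | ⟨M, hM, h1⟩
    · exact absurd h1 hR
    rcases three_or tab known F hM.1 with h2 | ⟨-, h2⟩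
    · exact h2.mono h1
    · rcases three_or tab known F hR with h3 | ⟨-, h3⟩
      · exact h3
      · exfalso
        have h4 := Subgroup.card_dvd_of_le h1
        have h5 : Nat.card R = Nat.card M := by
          rcases h2 with h2 | h2 | h2 <;> rcases h3 with h3 | h3 | h3 <;> rw [h2, h3] at h4 <;>
            first | (rw [h2, h3]; done) | (exfalso; norm_num at h4)
        apply hRc
        rw [Subgroup.eq_of_le_of_card_ge h1 h5.ge]
        exact hM

/-- **S3500 for `Fi22`** -/
theorem row_fi22 (tab : OrderTable.{u}) (known : Known.{u}) (h : Spor.IsoFi22 T) :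
    H439.Der.Row T :=
  (rowS_fi22 tab known h).row

end

end Cfsg.Agent.H870.Der.FiTwo
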