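import Cfsg.Agent.H870.Der.Tool3
import Cfsg.Agent.H839.SeventeenMain
import Cfsg.Agent.H729.PairBase
import Cfsg.Agent.NotCT.Orders
import Cfsg.Agent.S2080

/-!
# S3500, S3502: the row of `Fi23` (helper870)

A proper subgroup misses one of the pairs of primes `(13, 17)`, `(23, 17)`, `(23, 11)`.
-/

set_option autoImplicit false

namespace Cfsg.Agent.H870.Der.FiTT

open Subgroup Cfsg Cfsg.Agent.H439.Der Cfsg.Agent.H257.El Cfsg.Agent.OrdDiv Cfsg.Agent.H870.Der

universe u

/-- the factorisation of the order -/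
def l : List (ℕ × ℕ) := [(2, 18), (3, 13), (5, 2), (7, 1), (11, 1), (13, 1), (17, 1), (23, 1)]

section

variable {T : Type u} [Group T]

theorem noOrd23 (h : Spor.IsoFi23 T) {s : ℕ} (hs : s.Prime) (h23 : 23 ≠ s) (z : T) : orderOf z ≠ 23 * s := by
  have hc := NotCT.Orders.fi23 h
  have : Finite T := Nat.finite_of_card_ne_zero (by rw [hc]; norm_num)
  obtain ⟨e⟩ := h
  refine noOrd_of_cent (by norm_num) (fun x hx => ?_) hs h23 z
  obtain ⟨-, h2⟩ := H839.Fi23.SC.map_all e.symm H839.Fi23.twentythree_main (zpowers x) (by rw [Nat.card_zpowers, hx])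
  rw [H729.PairBase.centralizer_zpowers_eq] at h2
  rw [h2, Nat.card_zpowers, hx]

theorem noOrd17 (h : Spor.IsoFi23 T) {s : ℕ} (hs : s.Prime) (h17 : 17 ≠ s) (z : T) : orderOf z ≠ 17 * s := by
  have hc := NotCT.Orders.fi23 h
  have : Finite T := Nat.finite_of_card_ne_zero (by rw [hc]; norm_num)
  obtain ⟨e⟩ := h
  refine noOrd_of_cent (by norm_num) (fun x hx => ?_) hs h17 z
  obtain ⟨-, h2⟩ := H839.Fi23.SC.map_all e.symm H839.Fi23.seventeen_main (zpowers x) (by rw [Nat.card_zpowers, hx])
  rw [H729.PairBase.centralizer_zpowers_eq] at h2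
  rw [h2, Nat.card_zpowers, hx]

/-- **two missing primes** -/
theorem missing (tab : OrderTable.{u}) (known : Known.{u}) (h : Spor.IsoFi23 T) {R : Subgroup T} (hR : R ≠ ⊤) :
    (¬ 13 ∣ Nat.card R ∧ ¬ 17 ∣ Nat.card R) ∨ (¬ 23 ∣ Nat.card R ∧ ¬ 17 ∣ Nat.card R) ∨
      (¬ 23 ∣ Nat.card R ∧ ¬ 11 ∣ Nat.card R) := by
  have hc := NotCT.Orders.fi23 h
  have : Finite T := Nat.finite_of_card_ne_zero (by rw [hc]; norm_num)
  by_cases h23 : 23 ∣ Nat.card R
  · left
    exact ⟨not_dvd_of_pair (l := l) tab known hc (by norm_num) (by norm_num) (noOrd23 h (by norm_num) (by norm_num))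
        (by decide +kernel) hR h23,
      not_dvd_of_pair (l := l) tab known hc (by norm_num) (by norm_num) (noOrd23 h (by norm_num) (by norm_num))
        (by decide +kernel) hR h23⟩
  · right
    by_cases h17 : 17 ∣ Nat.card R
    · exact Or.inr ⟨h23, not_dvd_of_pair (l := l) tab known hc (by norm_num) (by norm_num)
        (noOrd17 h (by norm_num) (by norm_num)) (by decide +kernel) hR h17⟩
    · exact Or.inl ⟨h23, h17⟩

/-- **S3502 for `Fi23`**, every proper subgroup -/
theorem three_fi23 (tab : OrderTable.{u}) (known : Known.{u}) (h : Spor.IsoFi23 T) {R : Subgroup T} (hR : R ≠ ⊤) :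
    Three T R := by
  have hc := NotCT.Orders.fi23 h
  have : Finite T := Nat.finite_of_card_ne_zero (by rw [hc]; norm_num)
  have hO : Nat.card (Cfsg.Out T) = 1 := by
    obtain ⟨e⟩ := h
    rw [card_out_congr e, S2080.result]
  have hd : ∀ p : ℕ, p ∣ 4089470473293004800 → p ∣ Nat.card T := fun p hp => by rwa [hc]
  rcases missing tab known h hR with ⟨h1, h2⟩ | ⟨h1, h2⟩ | ⟨h1, h2⟩
  · exact Three.of_two_primes (v := 13) (w := 17) (by norm_num) (by norm_num) (by norm_num) (hd _ (by norm_num)) h1 h2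
      (not_SC_chk (by norm_num) hc hO (by decide +kernel))
  · exact Three.of_two_primes (v := 23) (w := 17) (by norm_num) (by norm_num) (by norm_num) (hd _ (by norm_num)) h1 h2
      (not_SC_chk (by norm_num) hc hO (by decide +kernel))
  · exact Three.of_two_primes (v := 23) (w := 11) (by norm_num) (by norm_num) (by norm_num) (hd _ (by norm_num)) h1 h2
      (not_SC_chk (by norm_num) hc hO (by decide +kernel))

/-- **S3502 for `Fi23`** -/
theorem rowS_fi23 (tab : OrderTable.{u}) (known : Known.{u}) (h : Spor.IsoFi23 T) : RowS T := by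
  have hc := NotCT.Orders.fi23 h
  have : Finite T := Nat.finite_of_card_ne_zero (by rw [hc]; norm_num)
  exact RowS.of_three fun M hM => three_fi23 tab known h hM.1

/-- **S3500 for `Fi23`** -/
theorem row_fi23 (tab : OrderTable.{u}) (known : Known.{u}) (h : Spor.IsoFi23 T) : Row T :=
  (rowS_fi23 tab known h).row

end

end Cfsg.Agent.H870.Der.FiTT
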