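import Cfsg.Agent.H870.Der.CoTwo
import Cfsg.Agent.H771.KCo23
import Cfsg.Agent.H385.SpNine

/-!
# S3500: the row of `Co2` (helper870)

A maximal subgroup of order divisible by 23 and 5 is `2^b.M23` or `2^b.M24`; orders 9 and 18 are missing.
-/

set_option autoImplicit false

namespace Cfsg.Agent.H870.Der.CoTwo

open Subgroup Cfsg Cfsg.Agent.H439.Der Cfsg.Agent.H257.El Cfsg.Agent.OrdDiv Cfsg.Agent.H870.Der
open Cfsg.Agent.H92.KTools Cfsg.Agent.H771.KTools Cfsg.Agent.SporRec.TwoSp6.Sp

universe u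

/-- `Co2` has elements of orders 9 and 18 -/
theorem exists9_18 : (∃ x : Spor.Co2, orderOf x = 9) ∧ ∃ x : Spor.Co2, orderOf x = 18 := by
  have := Cfsg.Agent.Schreier.CoTwoStab.isSimpleGroup
  have H := KFacts.CoTwo.QuotInst.hyp
  obtain ⟨π, hπ, -⟩ := KFacts.CoTwo.Quot.quot H
  have h9 := H771.KSp6.nine.of_surjective π hπ
  exact ⟨h9.of_subgroup, two_mul_of_cent H.large.z_sq H.large.z_ne (by decide) h9⟩

/-- the numeric condition for a core which is a 2-group -/
def okOdd (l : List (ℕ × ℕ)) (r : ℕ) : Bool := l.all fun x => Nat.beq x.1 r || Nat.beq x.1 2 || okPow l r x.1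

/-- `r` is adjacent to no prime: the core is a 2-group -/
theorem core_two {T : Type u} [Group T] [Finite T] {n : ℕ} {l : List (ℕ × ℕ)} {r : ℕ} {R : Subgroup T}
    {O : Subgroup R} [O.Normal] {N : Subgroup (R ⧸ O)} (S : SitB T n l r R) (h : Top R r O N)
    (hno : ∀ s : ℕ, s.Prime → r ≠ s → ∀ z : T, orderOf z ≠ r * s) (hok : okOdd l r = true) (s : ℕ) (hs : s.Prime)
    (hs2 : s ≠ 2) : ¬ s ∣ Nat.card O := by
  intro hd
  have hrs : r ≠ s := by
    rintro rfl
    exact h.core hd
  obtain ⟨k, hk, -⟩ := exists_pair S.valid hs le_rfl (by rw [pow_one]; exact hd.trans (card_core_dvd S))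
  unfold okOdd at hok
  rw [List.all_eq_true] at hok
  have h1 := hok _ hk
  rw [Bool.or_eq_true, Bool.or_eq_true] at h1
  rcases h1 with (h1 | h1) | h1
  · exact hrs (Nat.eq_of_beq_eq_true h1).symm
  · exact hs2 (Nat.eq_of_beq_eq_true h1)
  · exact S.not_dvd_core h hs hrs (hno s hs hrs) h1 hd

/-- **S3500 for `Co2`** -/
theorem row_co2 (tab : OrderTable.{u}) (known : Known.{u}) {T : Type u} [Group T] (h : Spor.IsoCo2 T) : Row T := by
  obtain ⟨e⟩ := h
  have hc : Nat.card T = 42305421312000 := by rw [Nat.card_congr e.toEquiv, card_co2]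
  have : Finite T := Finite.of_equiv _ e.symm.toEquiv
  have hno : ∀ s : ℕ, s.Prime → 23 ≠ s → ∀ z : T, orderOf z ≠ 23 * s := fun s hs h => noOrd_congr e (noOrd23 hs h)
  intro M hM
  left
  by_cases h23 : 23 ∣ Nat.card M
  swap
  · exact Two.of_not_dvd h23 fun h => not_sc23 (h.congr e)
  by_cases h5 : 5 ∣ Nat.card M
  swap
  · exact Two.of_not_dvd h5 fun h => not_sc5 (h.congr e)
  have S : SitB T 42305421312000 l 23 M := ⟨tab, known, hc, by decide +kernel, by norm_num, h23, by norm_num, hM.1⟩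
  obtain ⟨O, hO, N, ht, g, hg, hr, hgc⟩ := S.exists_name (s := 5) (by norm_num) (by norm_num)
    (hno 5 (by norm_num) (by norm_num)) (by decide +kernel) h5
  rw [surv_eq] at hg
  have hna : ¬ ∀ a b : N, a * b = b * a := by
    intro hcm
    have h1 := ht.card_of_comm hcm
    rw [h1] at hgc
    simp only [List.mem_cons, List.not_mem_nil, or_false] at hg
    rcases hg with rfl | rfl
    · exact absurd hgc (by decide +kernel)
    · exact absurd hgc (by decide +kernel)
  have hT : (∃ x : T, orderOf x = 9) ∧ ∃ x : T, orderOf x = 18 := by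
    have key : ∀ k : ℕ, (∃ x : Spor.Co2, orderOf x = k) → ∃ x : T, orderOf x = k := fun k ⟨x, hx⟩ =>
      ⟨e.symm x, by rw [MulEquiv.orderOf_eq, hx]⟩
    exact ⟨key _ exists9_18.1, key _ exists9_18.2⟩
  have h3 : ¬ 3 ∣ Nat.card O := core_two S ht hno (by decide +kernel) 3 (by norm_num) (by norm_num)
  have hN : N.Normal := ht.normal
  have h9 : ∀ m : M, orderOf m ≠ 9 := by
    intro m hm
    have hO9 : Nat.Coprime 9 (Nat.card O) := by
      rw [show (9 : ℕ) = 3 ^ 2 by norm_num]
      exact Nat.Coprime.pow_left _ ((Nat.Prime.coprime_iff_not_dvd (by norm_num)).2 h3)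
    have key : Nat.card (Cfsg.Out N) = 1 → (¬ ∃ x : N, orderOf x = 9) → False := by
      intro hO1 h9
      exact h9 (exists_of_top (O := O) (N := N) hO9
        (by rw [eq_top_of_out ht hna hO1, Subgroup.index_top]; exact Nat.coprime_one_right 9) hm)
    simp only [List.mem_cons, List.not_mem_nil, or_false] at hg
    rcases hg with rfl | rfl
    · exact key (out_m23 hr) (H385.Sp.m23_nine hr)
    · exact key (out_m24 hr) (H385.Sp.m24_nine hr)
  refine two_of_orders (a := 9) (b := 18) (by norm_num) hT.1 hT.2 h9 fun m hm => h9 (m ^ 2) ?_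
  rw [orderOf_pow_of_dvd (by norm_num) (by rw [hm]; norm_num), hm]

end Cfsg.Agent.H870.Der.CoTwo
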