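import Cfsg.Agent.H870.Der.Tool3
import Cfsg.Agent.H836.Sylow
import Cfsg.Agent.H713.Spor.Tool

/-!
# Coprime lifting for elements of prime order (helper870)

`O` normal in `R`, `p ∤ |O|`, `x` of order `p`:
* `exists_lift_eq` : an element of order `p` of `R ⧸ O` lifts
* `exists_lift_conj` : `g x g⁻¹ = x ^ k` modulo `O` lifts
* `card_cent_quot_dvd`, `card_norm_quot_dvd`
* `fus_card_le` : Sylow counting in subgroups
* `card_inf_modEq` : an element of order `r` normalising `P`
-/

set_option autoImplicit false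

namespace Cfsg.Agent.H870.Der.Cop

open Subgroup Cfsg.Agent.H439.Der Cfsg.Agent.H257.El Cfsg.Agent.OrdDiv Cfsg.Agent.H870.Der
open Cfsg.Agent.H713.Count Cfsg.Agent.H713

section

variable {R : Type*} [Group R] {O : Subgroup R} [O.Normal] {p : ℕ}

/-- elements of order `p` lift -/
theorem exists_lift_eq [Finite R] (hp : p.Prime) (hO : ¬ p ∣ Nat.card O) {q : R ⧸ O} (hq : orderOf q = p) :
    ∃ x : R, orderOf x = p ∧ QuotientGroup.mk' O x = q := by
  have := Fact.mk hp
  obtain ⟨y, rfl⟩ := QuotientGroup.mk'_surjective O q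
  have hcop : Nat.Coprime p (Nat.card O) := (Nat.Prime.coprime_iff_not_dvd hp).2 hO
  obtain ⟨k, hk1, hk2⟩ := Nat.chineseRemainder hcop 1 0
  have hyO : y ^ p ∈ O := by
    have h1 : QuotientGroup.mk' O (y ^ p) = 1 := by rw [map_pow, ← hq, pow_orderOf_eq_one]
    exact (QuotientGroup.eq_one_iff _).1 h1
  have h1 : QuotientGroup.mk' O (y ^ k) = QuotientGroup.mk' O y := by
    rw [map_pow]
    conv_rhs => rw [← pow_one (QuotientGroup.mk' O y)]
    rw [pow_eq_pow_iff_modEq, hq]
    exact hk1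
  refine ⟨y ^ k, orderOf_eq_prime ?_ ?_, h1⟩
  · obtain ⟨j, rfl⟩ := (Nat.modEq_zero_iff_dvd.1 hk2)
    rw [← pow_mul, mul_comm, mul_comm (Nat.card O), ← mul_assoc, pow_mul, pow_mul]
    have h2 : (⟨y ^ p, hyO⟩ : O) ^ Nat.card O = 1 := pow_card_eq_one'
    have h3 : (y ^ p) ^ Nat.card O = 1 := congrArg Subtype.val h2
    rw [pow_right_comm, h3, one_pow]
  · intro h2
    rw [h2, map_one] at h1
    rw [← h1, orderOf_one] at hq
    exact hp.one_lt.ne hq

/-- the order of the image -/
theorem orderOf_mk (hp : p.Prime) (hO : ¬ p ∣ Nat.card O) {x : R} (hx : orderOf x = p) :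
    orderOf (QuotientGroup.mk' O x) = p := by
  have h1 : orderOf (QuotientGroup.mk' O x) ∣ p := by rw [← hx]; exact orderOf_map_dvd _ _
  rcases (Nat.dvd_prime hp).1 h1 with h2 | h2
  · exfalso
    apply hO
    have h3 : x ∈ O := (QuotientGroup.eq_one_iff x).1 (orderOf_eq_one_iff.1 h2)
    rw [← hx, ← Subgroup.orderOf_mk x h3]
    exact orderOf_dvd_natCard _
  · exact h2

/-- the order of a preimage -/
theorem card_comap (M : Subgroup (R ⧸ O)) [Finite R] :
    Nat.card (M.comap (QuotientGroup.mk' O)) = Nat.card M * Nat.card O := by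
  have h1 := Subgroup.card_mul_index (M.comap (QuotientGroup.mk' O))
  have h3 : (M.comap (QuotientGroup.mk' O)).index = M.index :=
    Subgroup.index_comap_of_surjective M (QuotientGroup.mk'_surjective O)
  have h4 := Subgroup.card_mul_index M
  have h5 := card_quot_mul O
  rw [h3] at h1
  have h6 : 0 < M.index := Nat.pos_of_ne_zero M.index_ne_zero_of_finite
  apply Nat.eq_of_mul_eq_mul_right h6
  rw [h1, ← h5, ← h4]
  ring

/-- **conjugations between powers of an element of prime order lift** -/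
theorem exists_lift_conj [Finite R] (hp : p.Prime) (hO : ¬ p ∣ Nat.card O) {x : R} (hx : orderOf x = p) {k : ℕ} {g : R}
    (h : QuotientGroup.mk' O g * QuotientGroup.mk' O x * (QuotientGroup.mk' O g)⁻¹ = (QuotientGroup.mk' O x) ^ k) :
    ∃ g' : R, QuotientGroup.mk' O g' = QuotientGroup.mk' O g ∧ g' * x * g'⁻¹ = x ^ k := by
  have hpf := Fact.mk hp
  set f := QuotientGroup.mk' O with hf
  have hfx := orderOf_mk hp hO hx
  rw [← hf] at hfx
  set K : Subgroup R := (zpowers (f x)).comap f with hK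
  have hKc : Nat.card K = p * Nat.card O := by
    rw [hK, card_comap, Nat.card_zpowers, hfx]
  have hK2 : ¬ p ^ 2 ∣ Nat.card K := by
    rw [hKc, pow_two]
    intro h2
    exact hO (Nat.dvd_of_mul_dvd_mul_left hp.pos h2)
  have hxK : x ∈ K := mem_zpowers (f x)
  have hyK : g * x * g⁻¹ ∈ K := by
    rw [hK, mem_comap, map_mul, map_mul, map_inv, h]
    exact npow_mem_zpowers _ _
  have hcx : Nat.card (zpowers (⟨x, hxK⟩ : K)) = p := by
    rw [Nat.card_zpowers, Subgroup.orderOf_mk, hx]
  have hcy : Nat.card (zpowers (⟨g * x * g⁻¹, hyK⟩ : K)) = p := by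
    rw [Nat.card_zpowers, Subgroup.orderOf_mk, orderOf_conj, hx]
  obtain ⟨u, hu⟩ := H836.Sylow.conj_of_card hp hK2 hcy hcx
  -- `u (g x g⁻¹) u⁻¹ ∈ ⟨x⟩`
  have h1 : (u : R) * (g * x * g⁻¹) * (u : R)⁻¹ ∈ zpowers x := by
    have h2 : u * (⟨g * x * g⁻¹, hyK⟩ : K) * u⁻¹ ∈ zpowers (⟨x, hxK⟩ : K) := by
      rw [← hu]
      exact ⟨_, mem_zpowers _, rfl⟩
    obtain ⟨j, hj⟩ := mem_zpowers_iff.1 h2
    exact mem_zpowers_iff.2 ⟨j, by have := congrArg Subtype.val hj; simpa using this⟩
  obtain ⟨j, hj⟩ := mem_zpowers_iff.1 (show f (u : R) ∈ zpowers (f x) from u.2)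
  obtain ⟨m, hm⟩ := mem_zpowers_iff.1 h1
  refine ⟨x ^ (-j) * u * g, ?_, ?_⟩
  · rw [map_mul, map_mul, map_zpow, ← hj, ← zpow_add, neg_add_cancel, zpow_zero, one_mul]
  · have h2 : x ^ (-j) * u * g * x * (x ^ (-j) * u * g)⁻¹ = x ^ m := by
      calc x ^ (-j) * u * g * x * (x ^ (-j) * u * g)⁻¹ = x ^ (-j) * (u * (g * x * g⁻¹) * (u : R)⁻¹) * (x ^ (-j))⁻¹ := by
            group
        _ = x ^ m := by rw [← hm]; group
    rw [h2]
    have h3 : f (x ^ m) = f (x ^ k) := by
      rw [← h2, map_pow, ← h]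
      simp only [map_mul, map_inv, map_zpow, ← hj]
      group
    rw [map_zpow, map_pow, ← zpow_natCast, zpow_eq_zpow_iff_modEq, hfx] at h3
    rw [← zpow_natCast, zpow_eq_zpow_iff_modEq, hx]
    exact h3

/-- **the centralizer in the quotient** -/
theorem card_cent_quot_dvd [Finite R] (hp : p.Prime) (hO : ¬ p ∣ Nat.card O) {x : R} (hx : orderOf x = p) :
    Nat.card (centralizer ({QuotientGroup.mk' O x} : Set (R ⧸ O))) ∣ Nat.card (centralizer ({x} : Set R)) := by
  let φ : centralizer ({x} : Set R) →* centralizer ({QuotientGroup.mk' O x} : Set (R ⧸ O)) :=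
    ((QuotientGroup.mk' O).comp (centralizer ({x} : Set R)).subtype).codRestrict _ fun c => by
      rw [mem_centralizer_singleton_iff]
      show QuotientGroup.mk' O c * QuotientGroup.mk' O x = QuotientGroup.mk' O x * QuotientGroup.mk' O c
      rw [← map_mul, mem_centralizer_singleton_iff.1 c.2, map_mul]
  refine Subgroup.card_dvd_of_surjective φ fun q => ?_
  obtain ⟨g, hg⟩ := QuotientGroup.mk'_surjective O (q : R ⧸ O)
  have hq := mem_centralizer_singleton_iff.1 q.2
  rw [← hg] at hq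
  obtain ⟨g', h1, h2⟩ := exists_lift_conj hp hO hx (k := 1) (g := g) (by rw [hq, pow_one, mul_inv_cancel_right])
  rw [pow_one] at h2
  refine ⟨⟨g', mem_centralizer_singleton_iff.2 (mul_inv_eq_iff_eq_mul.1 h2)⟩, ?_⟩
  apply Subtype.ext
  show QuotientGroup.mk' O g' = q
  rw [h1, hg]

/-- **the normalizer in the quotient** -/
theorem card_norm_quot_dvd [Finite R] (hp : p.Prime) (hO : ¬ p ∣ Nat.card O) {x : R} (hx : orderOf x = p) :
    Nat.card (normalizer (zpowers (QuotientGroup.mk' O x) : Set (R ⧸ O))) ∣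
      Nat.card (normalizer (zpowers x : Set R)) := by
  let φ : normalizer (zpowers x : Set R) →* normalizer (zpowers (QuotientGroup.mk' O x) : Set (R ⧸ O)) :=
    ((QuotientGroup.mk' O).comp (normalizer (zpowers x : Set R)).subtype).codRestrict _ fun c => by
      apply mem_normalizer_of
      have h1 : (c : R) * x * (c : R)⁻¹ ∈ zpowers x := (Subgroup.mem_normalizer_iff.1 c.2 x).1 (mem_zpowers x)
      obtain ⟨j, hj⟩ := mem_zpowers_iff.1 h1
      refine mem_zpowers_iff.2 ⟨j, ?_⟩
      show _ = QuotientGroup.mk' O c * QuotientGroup.mk' O x * (QuotientGroup.mk' O c)⁻¹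
      rw [← map_zpow, hj, map_mul, map_mul, map_inv]
  refine Subgroup.card_dvd_of_surjective φ fun q => ?_
  obtain ⟨g, hg⟩ := QuotientGroup.mk'_surjective O (q : R ⧸ O)
  have hq : (q : R ⧸ O) * QuotientGroup.mk' O x * (q : R ⧸ O)⁻¹ ∈ zpowers (QuotientGroup.mk' O x) :=
    (Subgroup.mem_normalizer_iff.1 q.2 _).1 (mem_zpowers _)
  rw [← hg] at hq
  obtain ⟨k, hk⟩ := (mem_powers_iff_mem_zpowers.2 hq : _ ∈ Submonoid.powers (QuotientGroup.mk' O x))
  have hk : (QuotientGroup.mk' O x) ^ k =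
      QuotientGroup.mk' O g * QuotientGroup.mk' O x * (QuotientGroup.mk' O g)⁻¹ := hk
  obtain ⟨g', h1, h2⟩ := exists_lift_conj hp hO hx (k := k) (g := g) hk.symm
  refine ⟨⟨g', mem_normalizer_of (by rw [h2]; exact npow_mem_zpowers _ _)⟩, ?_⟩
  apply Subtype.ext
  show QuotientGroup.mk' O g' = q
  rw [h1, hg]

end

/-! ### subgroups -/

section

variable {T : Type*} [Group T] {p : ℕ}

theorem card_cent_sub_dvd {R : Subgroup T} (x : R) :
    Nat.card (centralizer ({x} : Set R)) ∣ Nat.card (centralizer ({(x : T)} : Set T)) := by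
  refine Subgroup.card_dvd_of_injective ((R.subtype.comp (centralizer ({x} : Set R)).subtype).codRestrict _ fun c => ?_)
    fun a b h => ?_
  · rw [mem_centralizer_singleton_iff]
    exact congrArg Subtype.val (mem_centralizer_singleton_iff.1 c.2)
  · have h1 := congrArg Subtype.val h
    exact Subtype.ext (Subtype.ext h1)

theorem card_norm_sub_dvd [Finite T] {R : Subgroup T} (x : R) :
    Nat.card (normalizer (zpowers x : Set R)) ∣ Nat.card (normalizer (zpowers (x : T) : Set T)) := by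
  refine Subgroup.card_dvd_of_injective ((R.subtype.comp (normalizer (zpowers x : Set R)).subtype).codRestrict _
    fun c => ?_) fun a b h => ?_
  · apply mem_normalizer_of
    have h1 : (c : R) * x * (c : R)⁻¹ ∈ zpowers x := (Subgroup.mem_normalizer_iff.1 c.2 x).1 (mem_zpowers x)
    obtain ⟨j, hj⟩ := mem_zpowers_iff.1 h1
    exact mem_zpowers_iff.2 ⟨j, by have := congrArg Subtype.val hj; simpa using this⟩
  · have h1 := congrArg Subtype.val h
    exact Subtype.ext (Subtype.ext h1)

theorem fus_subset [Fact p.Prime] {R : Subgroup T} (x : R) : fus (p := p) x ⊆ fus (p := p) (x : T) := by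
  intro m hm
  rw [mem_fus] at hm ⊢
  refine ⟨hm.1, ?_⟩
  have := hm.2
  rw [isConj_iff] at this ⊢
  obtain ⟨c, hc⟩ := this
  exact ⟨c, by have := congrArg Subtype.val hc; simpa using this⟩

/-- **Sylow counting**: `|C(x)| = p c`, `f c ≡ |G| / p`, `f ∣ p - 1` -/
theorem count {G : Type*} [Group G] [Finite G] [hp : Fact p.Prime] (h1 : p ∣ Nat.card G) (h2 : ¬ p ^ 2 ∣ Nat.card G) {x : G}
    (hx : orderOf x = p) : ∃ c, Nat.card (centralizer ({x} : Set G)) = p * c ∧
      (fus (p := p) x).card ∣ p - 1 ∧ (fus (p := p) x).card * c ≡ Nat.card G / p [MOD p] := by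
  have hf : (Nat.card G).factorization p = 1 := by
    apply le_antisymm
    · by_contra hc
      exact h2 ((hp.out.pow_dvd_iff_le_factorization Nat.card_pos.ne').2 (by omega))
    · exact (hp.out.pow_dvd_iff_le_factorization (k := 1) Nat.card_pos.ne').1 (by rwa [pow_one])
  obtain ⟨c, hc⟩ : p ∣ Nat.card (centralizer ({x} : Set G)) := by
    have h3 : x ∈ centralizer ({x} : Set G) := mem_centralizer_singleton_iff.2 rfl
    have h4 := Subgroup.orderOf_dvd_natCard _ h3
    rwa [hx] at h4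
  exact ⟨c, hc, card_fus_dvd (by rw [← hx, pow_orderOf_eq_one]), card_fus_mul hf hx hc⟩

/-- an element of order `r` normalising a subgroup -/
theorem card_inf_modEq [Finite T] {r : ℕ} (hr : r.Prime) {y : T} (hy : orderOf y = r) {P : Subgroup T}
    (hyP : y ∈ normalizer (P : Set T)) :
    Nat.card P ≡ Nat.card ↥(P ⊓ centralizer ({y} : Set T)) [MOD r] := by
  have hconj : ∀ w : T, w ∈ P ↔ y * w * y⁻¹ ∈ P := mem_normalizer_iff.1 hyP
  let f : Equiv.Perm P :=
    { toFun := fun w => ⟨y * w * y⁻¹, (hconj w).1 w.2⟩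
      invFun := fun w => ⟨y⁻¹ * w * y, (hconj _).2 (by simp [mul_assoc])⟩
      left_inv := fun w => Subtype.ext (by simp [mul_assoc])
      right_inv := fun w => Subtype.ext (by simp [mul_assoc]) }
  have hfk : ∀ k : ℕ, ∀ w : P, (((f ^ k) w : P) : T) = y ^ k * w * (y ^ k)⁻¹ := by
    intro k
    induction k with
    | zero => intro w; simp
    | succ k ih =>
      intro w
      rw [pow_succ', Equiv.Perm.mul_apply]
      show y * ((f ^ k) w : P) * y⁻¹ = _
      rw [ih, pow_succ']
      group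
  have hf : f ^ r = 1 := by
    ext w
    rw [hfk, ← hy, pow_orderOf_eq_one]
    simp
  have h6 := Cfsg.Agent.H361.SelfCent.card_modEq_of_perm hr f hf
  have h7 : Nat.card {a : P // f a = a} = Nat.card ↥(P ⊓ centralizer ({y} : Set T)) := by
    refine Nat.card_congr
      { toFun := fun a => ⟨(a : P), a.1.2, ?_⟩
        invFun := fun a => ⟨⟨a, a.2.1⟩, ?_⟩
        left_inv := fun a => rfl
        right_inv := fun a => rfl }
    · refine mem_centralizer_singleton_iff.2 ?_
      have h8 : y * (a : P) * y⁻¹ = (a : P) := congrArg Subtype.val a.2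
      calc ((a : P) : T) * y = (y * (a : P) * y⁻¹) * y := by rw [h8]
        _ = _ := by group
    · apply Subtype.ext
      have h8 := mem_centralizer_singleton_iff.1 a.2.2
      show y * (a : T) * y⁻¹ = a
      rw [← h8, mul_inv_cancel_right]
  rw [← h7]
  exact h6

end

end Cfsg.Agent.H870.Der.Cop
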