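import Cfsg.Agent.H870.Der.Cop
import Cfsg.Agent.H836.Main
import Cfsg.Agent.H713.Spor.Fi22

/-!
# S3500, S3502: facts on `Fi22` (helper870)
-/

set_option autoImplicit false

namespace Cfsg.Agent.H870.Der.FiTwo

open Subgroup Cfsg Cfsg.Agent.H439.Der Cfsg.Agent.H257.El Cfsg.Agent.OrdDiv Cfsg.Agent.H870.Der
open Cfsg.Agent.H713.Count Cfsg.Agent.H713 Cfsg.Agent.H870.Der.Cop

universe u

/-- facts on `Fi22` -/
structure Facts (T : Type u) [Group T] : Prop where
  card : Nat.card T = 64561751654400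
  c7 : ∀ x : T, orderOf x = 7 → Nat.card (centralizer ({x} : Set T)) = 42
  c11 : ∀ x : T, orderOf x = 11 → Nat.card (centralizer ({x} : Set T)) = 22
  c13 : ∀ x : T, orderOf x = 13 → Nat.card (centralizer ({x} : Set T)) = 13
  n13 : ∀ x : T, orderOf x = 13 → Nat.card (normalizer (zpowers x : Set T)) = 78
  c5 : ∀ x : T, orderOf x = 5 → ¬ 9 ∣ Nat.card (centralizer ({x} : Set T))
  o15 : ∃ x : T, orderOf x = 15
  o22 : ∃ x : T, orderOf x = 22

theorem facts {T : Type u} [Group T] (h : Spor.IsoFi22 T) : Facts T := by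
  obtain ⟨e⟩ := h
  have I := H836.inv_of_iso e
  have C := I.ctx
  have hfin := C.finite
  have key : ∀ {p : ℕ} {x : T}, p ≠ 1 → orderOf x = p → x ^ p = 1 ∧ x ≠ 1 := by
    intro p x hp hx
    refine ⟨by rw [← hx, pow_orderOf_eq_one], ?_⟩
    rintro rfl
    exact hp (by rw [← hx, orderOf_one])
  refine ⟨C.card, fun x hx => ?_, fun x hx => H713.Spor.Fi22.cent_11 e hx, fun x hx => ?_, fun x hx => ?_,
    fun x hx => ?_, ?_, H713.Spor.Fi22.exists_22 e⟩
  · obtain ⟨h1, h2⟩ := key (by norm_num) hx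
    exact I.card_seven h1 h2
  · rw [H836.Main.centralizer_thirteen e hx, Nat.card_zpowers, hx]
  · exact ((H836.Main.thirteen_concl e).2 (zpowers x) (by rw [Nat.card_zpowers, hx])).1
  · obtain ⟨h1, h2⟩ := key (by norm_num) hx
    exact C.nine_five h1 h2
  · have := Fact.mk (show Nat.Prime 5 by norm_num)
    obtain ⟨u, hu⟩ := exists_prime_orderOf_dvd_card' (G := T) 5 (by rw [C.card]; norm_num)
    obtain ⟨h1, h2⟩ := key (by norm_num) hu
    obtain ⟨d, hd, hud⟩ := C.ex5 u h1 h2
    have h3 := (C.five_far h1 h2 (d := d) ⟨hd, hud⟩).2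
    obtain ⟨c, ⟨hc, huc⟩, hdc⟩ : {b | b ∈ LThreeFi22.Fx (KFacts.FiTT.TK e) u ∧ d * b ≠ b * d}.Nonempty := by
      rw [Set.nonempty_iff_ne_empty]
      intro h4
      rw [h4, Set.ncard_empty] at h3
      exact absurd h3 (by norm_num)
    have hdd := C.sq d hd
    have hcc := C.sq c hc
    have h4 : d * c * d = c * d * c := (C.three d hd c hc).resolve_left hdc
    have ho : orderOf (d * c) = 3 := by
      have := Fact.mk (show Nat.Prime 3 by norm_num)
      refine orderOf_eq_prime ?_ fun h5 => hdc ?_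
      · have h0 : (d * c) ^ 3 = (d * c * d) * (c * d * c) := by
          rw [pow_succ, pow_two]
          simp only [mul_assoc]
        calc (d * c) ^ 3 = (d * c * d) * (c * d * c) := h0
          _ = (c * d * c) * (c * d * c) := by rw [h4]
          _ = c * (d * (c * c) * d) * c := by group
          _ = 1 := by rw [hcc, mul_one, hdd, mul_one, hcc]
      · have h6 : d = c⁻¹ := eq_inv_of_mul_eq_one_left h5
        rw [h6, inv_mul_cancel, mul_inv_cancel]
    have hcm : u * (d * c) = d * c * u := by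
      calc u * (d * c) = (u * d) * c := by group
        _ = d * (u * c) := by rw [hud]; group
        _ = d * c * u := by rw [huc]; group
    exact ⟨_, orderOf_mul_of_comm (r := 5) (s := 3) (by norm_num) (by norm_num) (by norm_num) hu ho hcm⟩

namespace Facts

variable {T : Type u} [Group T] (F : Facts T)
include F

theorem finite : Finite T := Nat.finite_of_card_ne_zero (by rw [F.card]; norm_num)

theorem dvd {p : ℕ} (h : p ∣ 64561751654400) : p ∣ Nat.card T := by rwa [F.card]

omit F in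
/-- orders of elements of the centralizer of an element of prime order -/
theorem order_of_pow {n p c : ℕ} (hc : ∀ x : T, orderOf x = p → Nat.card (centralizer ({x} : Set T)) = c)
    {z : T} (hz : orderOf z = n) (hd : p ∣ n) (hn : n ≠ 0) : n ∣ c := by
  obtain ⟨k, rfl⟩ := hd
  have hk : k ≠ 0 := by rintro rfl; exact hn (mul_zero _)
  have h1 : orderOf (z ^ k) = p := by
    rw [orderOf_pow_of_dvd hk (by rw [hz]; exact dvd_mul_left _ _), hz, Nat.mul_div_cancel _ (Nat.pos_of_ne_zero hk)]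
  rw [← hc _ h1, ← hz]
  exact Subgroup.orderOf_dvd_natCard _ (mem_centralizer_singleton_iff.2 ((Commute.refl z).pow_right k).eq)

theorem no_7 {n : ℕ} (hd : 7 ∣ n) (hn : ¬ n ∣ 42) (z : T) : orderOf z ≠ n := fun hz =>
  hn (order_of_pow F.c7 hz hd (by
    rintro rfl
    have := F.finite
    exact (orderOf_pos z).ne' hz))

theorem no_11 {n : ℕ} (hd : 11 ∣ n) (hn : ¬ n ∣ 22) (z : T) : orderOf z ≠ n := fun hz =>
  hn (order_of_pow F.c11 hz hd (by
    rintro rfl
    have := F.finite
    exact (orderOf_pos z).ne' hz))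

theorem no_13 {n : ℕ} (hd : 13 ∣ n) (hn : ¬ n ∣ 13) (z : T) : orderOf z ≠ n := fun hz =>
  hn (order_of_pow F.c13 hz hd (by
    rintro rfl
    have := F.finite
    exact (orderOf_pos z).ne' hz))

theorem exists_ord {p s : ℕ} (hp : p.Prime) (hs : s.Prime) (hne : p ≠ s) {c : ℕ} (hd : p ∣ 64561751654400) (hsc : s ∣ c)
    (hc : ∀ x : T, orderOf x = p → Nat.card (centralizer ({x} : Set T)) = c) : ∃ x : T, orderOf x = p * s := by
  have := F.finite
  have := Fact.mk hp
  have := Fact.mk hs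
  obtain ⟨x, hx⟩ := exists_prime_orderOf_dvd_card' (G := T) p (F.dvd hd)
  obtain ⟨⟨y, hyC⟩, hy⟩ := exists_prime_orderOf_dvd_card' (G := centralizer ({x} : Set T)) s (by rw [hc x hx]; exact hsc)
  rw [Subgroup.orderOf_mk] at hy
  exact ⟨_, orderOf_mul_of_comm hp hs hne hx hy (mem_centralizer_singleton_iff.1 hyC).symm⟩

theorem o14 : ∃ x : T, orderOf x = 14 :=
  F.exists_ord (p := 7) (s := 2) (by norm_num) (by norm_num) (by norm_num) (by norm_num) (by norm_num) F.c7

theorem o21 : ∃ x : T, orderOf x = 21 :=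
  F.exists_ord (p := 7) (s := 3) (by norm_num) (by norm_num) (by norm_num) (by norm_num) (by norm_num) F.c7

theorem ord {p : ℕ} (hp : p.Prime) (hd : p ∣ 64561751654400) : ∃ x : T, orderOf x = p := by
  have := F.finite
  have := Fact.mk hp
  exact exists_prime_orderOf_dvd_card' p (F.dvd hd)

theorem not_sc7 : ¬ SC T 7 := by
  have := F.finite
  obtain ⟨x, hx⟩ := F.o14
  exact not_SC_of_mul (by norm_num) hx (by norm_num) (by norm_num)

theorem not_sc11 : ¬ SC T 11 := by
  have := F.finite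
  obtain ⟨x, hx⟩ := F.o22
  exact not_SC_of_mul (by norm_num) hx (by norm_num) (by norm_num)

/-- **the count at 11 in a subgroup** -/
theorem count11 {R : Subgroup T} (h : 11 ∣ Nat.card R) {x : R} (hx : orderOf x = 11) :
    ∃ c f : ℕ, Nat.card (centralizer ({x} : Set R)) = 11 * c ∧ c ∣ 2 ∧ (f = 1 ∨ f = 2 ∨ f = 5) ∧
      f * c % 11 = Nat.card R / 11 % 11 := by
  have := F.finite
  have := Fact.mk (show Nat.Prime 11 by norm_num)
  have hx' : orderOf (x : T) = 11 := by rw [Subgroup.orderOf_coe, hx]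
  obtain ⟨cT, h1, h2, h3⟩ := count (p := 11) (F.dvd (by norm_num)) (by rw [F.card]; norm_num) hx'
  rw [F.c11 _ hx'] at h1
  have hcT : cT = 2 := by omega
  subst hcT
  rw [F.card] at h3
  obtain ⟨c, h4, h5, h6⟩ := count (p := 11) h (fun hd => absurd (hd.trans (Subgroup.card_subgroup_dvd_card R)) (by
    rw [F.card]; norm_num)) hx
  have h7 := Finset.card_le_card (fus_subset (p := 11) x)
  have h8 := card_cent_sub_dvd x
  rw [F.c11 _ hx', h4, show (22 : ℕ) = 11 * 2 by norm_num] at h8
  refine ⟨c, _, h4, Nat.dvd_of_mul_dvd_mul_left (by norm_num) h8, ?_, h6⟩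
  generalize (fus (p := 11) x).card = f at *
  generalize (fus (p := 11) (x : T)).card = g at *
  have h9 : g ≤ 10 := Nat.le_of_dvd (by norm_num) h2
  have h10 : f ≤ 10 := Nat.le_of_dvd (by norm_num) h5
  unfold Nat.ModEq at h3
  interval_cases g <;> first | omega | skip
  all_goals interval_cases f <;> omega

/-- **the count at 7 in a subgroup** -/
theorem count7 {R : Subgroup T} (h : 7 ∣ Nat.card R) {x : R} (hx : orderOf x = 7) :
    ∃ c f : ℕ, Nat.card (centralizer ({x} : Set R)) = 7 * c ∧ c ∣ 6 ∧ f ∣ 6 ∧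
      f * c % 7 = Nat.card R / 7 % 7 := by
  have := F.finite
  have := Fact.mk (show Nat.Prime 7 by norm_num)
  have hx' : orderOf (x : T) = 7 := by rw [Subgroup.orderOf_coe, hx]
  obtain ⟨c, h4, h5, h6⟩ := count (p := 7) h (fun hd => absurd (hd.trans (Subgroup.card_subgroup_dvd_card R)) (by
    rw [F.card]; norm_num)) hx
  have h8 := card_cent_sub_dvd x
  rw [F.c7 _ hx', h4, show (42 : ℕ) = 7 * 6 by norm_num] at h8
  exact ⟨c, _, h4, Nat.dvd_of_mul_dvd_mul_left (by norm_num) h8, h5, h6⟩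

end Facts

end Cfsg.Agent.H870.Der.FiTwo
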