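import Cfsg.Agent.H870.Der.FiTwoC

/-!
# S3500, S3502: the row of `Fi22` (helper870)
-/

set_option autoImplicit false

namespace Cfsg.Agent.H870.Der.FiTwo

open Subgroup Cfsg Cfsg.Agent.H439.Der Cfsg.Agent.H257.El Cfsg.Agent.OrdDiv Cfsg.Agent.H870.Der
open Cfsg.Agent.H713.Count Cfsg.Agent.H713 Cfsg.Agent.H870.Der.Cop

universe u

section

variable {T : Type u} [Group T] [Finite T] (tab : OrderTable.{u}) (known : Known.{u}) (F : Facts T) {R : Subgroup T}
include tab known F

/-- **11 and 13 do not both divide the order of a proper subgroup** -/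
theorem not_both (hR : R ≠ ⊤) (h11 : 11 ∣ Nat.card R) : ¬ 13 ∣ Nat.card R := by
  intro h13
  have S : SitB T 64561751654400 l 13 R := ⟨tab, known, F.card, by decide +kernel, by norm_num, h13, by norm_num, hR⟩
  obtain ⟨O, hO, N, ht, g, hg, hr, hgc⟩ := S.exists_name (s := 11) (by norm_num) (by norm_num)
    (F.no_13 (by norm_num) (by norm_num)) (by decide +kernel) h11
  have hs : surv 64561751654400 l 13 [11] = [.alt 13, .suz] := by decide +kernel
  rw [hs] at hg
  have hN := ht.normal
  have hRn := dvd_n F R
  have hcard := card_eq O N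
  simp only [List.mem_cons, List.not_mem_nil, or_false] at hg
  rcases hg with rfl | rfl
  · -- `A13` has elements of order 35
    obtain ⟨z, hz⟩ := exists_of_N (alt35 (n := 13) (by norm_num) hr)
    exact noR_7 F (k := 35) (by norm_num) (by norm_num) z hz
  · -- `Suz`
    have hgc : Nat.card N = 448345497600 := by rw [hgc]; decide +kernel
    have hidx := ht.index_mul_dvd (fun p hp _ => SitA.noR (no_13_mul F hp)) (by rw [hgc]; norm_num)
    rw [hgc] at hidx
    have hidx : N.index ∣ 2 := by
      have h1 : N.index * 6 ∣ 2 * 6 := hidx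
      exact Nat.dvd_of_mul_dvd_mul_right (by norm_num) h1
    have hOd : Nat.card O ∣ 144 := by
      rw [hcard, hgc, show (64561751654400 : ℕ) = 448345497600 * 144 by norm_num] at hRn
      exact (dvd_mul_right _ _).trans (Nat.dvd_of_mul_dvd_mul_left (by norm_num) hRn)
    have hO1 : ∀ s : ℕ, s.Prime → ¬ s ∣ Nat.card O := by
      intro s hs
      rcases eq_or_ne 13 s with rfl | hrs
      · exact ht.core
      refine not_dvd_core' ht.prime hs hrs ht.dvdR ht.core (SitA.noR (no_13_mul F hs)) fun b hb hbd => ?_
      have hbd := hbd.trans hOd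
      have hs1 : s ∣ 2 ^ 4 * 3 ^ 2 := (dvd_pow_self s (by omega)).trans hbd
      have hs2 : s = 2 ∨ s = 3 := by
        rcases (hs.dvd_mul).1 hs1 with h | h
        · exact Or.inl ((Nat.prime_dvd_prime_iff_eq hs Nat.prime_two).1 (hs.dvd_of_dvd_pow h))
        · exact Or.inr ((Nat.prime_dvd_prime_iff_eq hs Nat.prime_three).1 (hs.dvd_of_dvd_pow h))
      have hb4 : b < 5 := by
        by_contra h4
        have h5 : s ^ 5 ∣ 144 := (pow_dvd_pow s (by omega)).trans hbd
        rcases hs2 with rfl | rfl <;> norm_num at h5
      interval_cases b <;> rcases hs2 with rfl | rfl <;> first | (norm_num; done) | (norm_num at hbd)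
    have hO0 : Nat.card O = 1 := by rw [eq_bot_of_not_dvd hO1, Subgroup.card_bot]
    rw [hgc, hO0, one_mul] at hcard
    rcases (Nat.dvd_prime Nat.prime_two).1 hidx with h1 | h1
    · rw [h1, mul_one] at hcard
      obtain ⟨z, hz⟩ := exists22_of F h11 (fun c f hc hf h => by
        rw [hcard] at h
        rcases (Nat.dvd_prime Nat.prime_two).1 hc with rfl | rfl
        · rcases hf with rfl | rfl | rfl <;> norm_num at h
        · rfl)
      obtain ⟨y, hy⟩ := exists_of_top (O := O) (N := N) (k := 22) (by rw [hO0]; exact Nat.coprime_one_right 22)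
        (by rw [h1]; exact Nat.coprime_one_right 22) hz
      exact H385.Sp.suz_22 hr ⟨y, hy⟩
    · rw [h1] at hcard
      refine false_of_count11 F h11 fun c f hc hf h => ?_
      rw [hcard] at h
      rcases (Nat.dvd_prime Nat.prime_two).1 hc with rfl | rfl <;> rcases hf with rfl | rfl | rfl <;> norm_num at h

/-- **subgroups of order divisible by 5, 7, 13** -/
theorem typeA (hR : R ≠ ⊤) (h13 : 13 ∣ Nat.card R) (h7 : 7 ∣ Nat.card R) (h5 : 5 ∣ Nat.card R)
    (h11 : ¬ 11 ∣ Nat.card R) :
    Nat.card R = 4585351680 ∨ Nat.card R = 251596800 := by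
  have S : SitB T 64561751654400 l 13 R := ⟨tab, known, F.card, by decide +kernel, by norm_num, h13, by norm_num, hR⟩
  obtain ⟨O, hO, N, ht⟩ := S.exists_top
  have hN := ht.normal
  have hRn := dvd_n F R
  have hcard := card_eq O N
  have k7 := S.dvd_simple ht (s := 7) (by norm_num) (F.no_13 (by norm_num) (by norm_num)) (by decide +kernel) h7
  have k5 := S.dvd_simple ht (s := 5) (by norm_num) (F.no_13 (by norm_num) (by norm_num)) (by decide +kernel) h5
  have hna := SitA.not_comm_of_dvd ht (by norm_num) (by norm_num) k7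
  obtain ⟨g, hg, hr, hgc⟩ := S.exists_surv ht hna [7, 5] (by
    intro s hs
    simp only [List.mem_cons, List.not_mem_nil, or_false] at hs
    rcases hs with rfl | rfl
    · exact k7
    · exact k5)
  have hidx := ht.index_mul_dvd (fun p hp _ => SitA.noR (no_13_mul F hp)) (by
    intro h
    rw [h] at k7
    norm_num at k7)
  have hQ : Nat.card (R ⧸ O) = Nat.card N * N.index := (Subgroup.card_mul_index N).symm
  have hE := thirteen F (O := O) h13 ht.core (by
    rw [hQ]
    intro h
    have h1 : 7 ∣ 13 := by rw [← h]; exact k7.mul_right _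
    norm_num at h1)
  rw [hQ] at hE
  have hs : surv 64561751654400 l 13 [7, 5] = [.alt 13, .psl 2 64, .psl 3 9, .psp 3 3, .oodd 3 3, .g2 4, .sz 8, .suz] := by
    decide +kernel
  rw [hs] at hg
  -- the core
  have core : ∀ m : ℕ, Nat.card N = m → ∀ k : ℕ, 64561751654400 = m * k → 0 < m →
      (∀ s : ℕ, s.Prime → s ∣ k → s ≠ 11 → s ∣ Nat.card O → False) → Nat.card O = 1 := by
    intro m hm k hk hm0 hkk
    have hOd : Nat.card O ∣ k := by
      rw [hcard, hm, hk] at hRn
      exact (dvd_mul_right _ _).trans (Nat.dvd_of_mul_dvd_mul_left hm0 hRn)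
    have hO1 : ∀ s : ℕ, s.Prime → ¬ s ∣ Nat.card O := by
      intro s hs hd
      refine hkk s hs (hd.trans hOd) ?_ hd
      rintro rfl
      exact h11 (hd.trans (Subgroup.card_subgroup_dvd_card O))
    rw [eq_bot_of_not_dvd hO1, Subgroup.card_bot]
  have gen : ∀ s : ℕ, s.Prime → 13 ≠ s → (∀ b, 1 ≤ b → s ^ b ∣ Nat.card O → s ^ b % 13 ≠ 1) → ¬ s ∣ Nat.card O :=
    fun s hs hrs hb => not_dvd_core' ht.prime hs hrs ht.dvdR ht.core (SitA.noR (no_13_mul F hs)) hb
  -- the case `|N| = |O7(3)|`
  have main : Nat.card N = 4585351680 → Nat.card R = 4585351680 ∨ Nat.card R = 251596800 := by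
    intro hm
    have hO0 := core _ hm 14080 (by norm_num) (by norm_num) (by
      intro s hs hd hne hsO
      have hs1 : s ∣ 2 ^ 8 * 5 * 11 := hd
      have hs2 : s = 2 ∨ s = 5 := by
        rcases (hs.dvd_mul).1 hs1 with h | h
        · rcases (hs.dvd_mul).1 h with h | h
          · exact Or.inl ((Nat.prime_dvd_prime_iff_eq hs Nat.prime_two).1 (hs.dvd_of_dvd_pow h))
          · exact Or.inr ((Nat.prime_dvd_prime_iff_eq hs (by norm_num)).1 h)
        · exact absurd ((Nat.prime_dvd_prime_iff_eq hs (by norm_num)).1 h) hne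
      have hOd : Nat.card O ∣ 14080 := by
        rw [hcard, hm, show (64561751654400 : ℕ) = 4585351680 * 14080 by norm_num] at hRn
        exact (dvd_mul_right _ _).trans (Nat.dvd_of_mul_dvd_mul_left (by norm_num) hRn)
      refine gen s hs (by rcases hs2 with rfl | rfl <;> norm_num) (fun b hb hbd => ?_) hsO
      have hbd := hbd.trans hOd
      have hb4 : b < 9 := by
        by_contra h4
        have h5 : s ^ 9 ∣ 14080 := (pow_dvd_pow s (by omega)).trans hbd
        rcases hs2 with rfl | rfl <;> norm_num at h5
      rcases hs2 with rfl | rfl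
      · interval_cases b <;> norm_num
      · have hb2 : b < 2 := by
          by_contra h4
          have h5 : 5 ^ 2 ∣ 14080 := (pow_dvd_pow 5 (by omega)).trans hbd
          norm_num at h5
        interval_cases b
        norm_num)
    rw [hm] at hidx hE hcard
    rw [hO0, one_mul] at hcard
    have h1 : N.index * 6 ∣ 12 := hidx
    have h2 : N.index ≤ 2 := by
      have := Nat.le_of_dvd (by norm_num) h1
      omega
    generalize N.index = i at *
    interval_cases i
    · norm_num at h1
    · left; rw [hcard]
    · exact absurd hE (by decide)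
  simp only [List.mem_cons, List.not_mem_nil, or_false] at hg
  rcases hg with rfl | rfl | rfl | rfl | rfl | rfl | rfl | rfl
  · exfalso
    apply h11
    rw [hcard, hgc]
    exact Dvd.dvd.mul_right (by decide +kernel) _
  · exfalso
    have hm : Nat.card N = 262080 := by rw [hgc]; decide +kernel
    rw [hm] at hidx
    have h1 : N.index * 10 ∣ 12 := hidx
    have h2 : 10 ∣ 12 := (dvd_mul_left _ _).trans h1
    norm_num at h2
  · exfalso
    have hm : Nat.card N = 42456960 := by rw [hgc]; decide +kernel
    rw [hm] at hidx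
    have h1 : N.index * 8 ∣ 12 := hidx
    have h2 : 8 ∣ 12 := (dvd_mul_left _ _).trans h1
    norm_num at h2
  · exact main (by rw [hgc]; decide +kernel)
  · exact main (by rw [hgc]; decide +kernel)
  · -- `G2(4)`
    have hm : Nat.card N = 251596800 := by rw [hgc]; decide +kernel
    have hOd : Nat.card O ∣ 256608 := by
      rw [hcard, hm, show (64561751654400 : ℕ) = 251596800 * 256608 by norm_num] at hRn
      exact (dvd_mul_right _ _).trans (Nat.dvd_of_mul_dvd_mul_left (by norm_num) hRn)
    have h5O : ¬ 5 ∣ Nat.card O := fun h => by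
      have := h.trans hOd
      norm_num at this
    have hO0 := core _ hm 256608 (by norm_num) (by norm_num) (by
      intro s hs hd hne hsO
      have hs1 : s ∣ 2 ^ 5 * 3 ^ 6 * 11 := hd
      have hs2 : s = 2 ∨ s = 3 := by
        rcases (hs.dvd_mul).1 hs1 with h | h
        · rcases (hs.dvd_mul).1 h with h | h
          · exact Or.inl ((Nat.prime_dvd_prime_iff_eq hs Nat.prime_two).1 (hs.dvd_of_dvd_pow h))
          · exact Or.inr ((Nat.prime_dvd_prime_iff_eq hs (by norm_num)).1 (hs.dvd_of_dvd_pow h))
        · exact absurd ((Nat.prime_dvd_prime_iff_eq hs (by norm_num)).1 h) hne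
      have bound : ∀ b, 1 ≤ b → s ^ b ∣ Nat.card O → b < 7 := by
        intro b hb hbd
        by_contra h4
        have h5 : s ^ 7 ∣ 256608 := (pow_dvd_pow s (by omega)).trans (hbd.trans hOd)
        rcases hs2 with rfl | rfl <;> norm_num at h5
      rcases hs2 with rfl | rfl
      · refine gen 2 hs (by norm_num) (fun b hb hbd => ?_) hsO
        have hb7 := bound b hb hbd
        interval_cases b <;> norm_num
      · refine not_three_dvd (r := 13) (q := 5) (by norm_num) (by norm_num) (by norm_num) h13 h5 ht.core h5O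
          (noR_13 F (by norm_num) (by norm_num)) (fun y hy h9 => ?_) (fun b hb hbd => ?_) hsO
        · refine F.c5 (y : T) (by rw [Subgroup.orderOf_coe, hy]) (h9.trans (card_cent_sub_dvd y))
        · have hb7 := bound b hb hbd
          interval_cases b <;> norm_num)
    rw [hm] at hidx hE hcard
    rw [hO0, one_mul] at hcard
    have h1 : N.index * 6 ∣ 12 := hidx
    have h2 : N.index ≤ 2 := by
      have := Nat.le_of_dvd (by norm_num) h1
      omega
    generalize N.index = i at *
    interval_cases i
    · norm_num at h1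
    · right; rw [hcard]
    · exact absurd hE (by decide)
  · exfalso
    have hm : Nat.card N = 29120 := by rw [hgc]; decide +kernel
    rw [hm] at hidx hE
    have h1 : N.index * 4 ∣ 12 := hidx
    have h2 : N.index ≤ 3 := by
      have := Nat.le_of_dvd (by norm_num) h1
      omega
    generalize N.index = i at *
    interval_cases i
    · norm_num at h1
    · exact absurd hE (by decide)
    · norm_num at h1
    · exact absurd hE (by decide)
  · exfalso
    apply h11
    rw [hcard, hgc]
    exact Dvd.dvd.mul_right (by decide +kernel) _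

end

end Cfsg.Agent.H870.Der.FiTwo
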