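import Cfsg.Agent.H439.Der.Tools
import Cfsg.Agent.H257.El.EngA

/-!
# Sporadic rows of S3500: tools (helper870)

* `exists_conj` : `|Out T| = 1`, every automorphism is inner
* `not_SC_of_cent` : an element of order `v` whose centralizer order is divisible by another prime
* `not_SC_of_self` : a self-centralising element of order `v`, `|Out T| = 1`, `(|T| / v) % v < v - 1`
* `SitB` : a proper subgroup of order divisible by `r`, `r ∥ |T|`
-/

set_option autoImplicit false

namespace Cfsg.Agent.H870.Der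

open Subgroup Cfsg.Agent.H439.Der Cfsg.Agent.H257.El Cfsg.Agent.OrdDiv

universe u

section

variable {T : Type*} [Group T]

theorem exists_conj (h : Nat.card (Cfsg.Out T) = 1) (φ : T ≃* T) : ∃ g : T, ∀ x, φ x = g * x * g⁻¹ := by
  have hs : Subsingleton (Cfsg.Out T) := (Nat.card_eq_one_iff_unique.1 h).1
  have h1 : (QuotientGroup.mk (φ : MulAut T) : Cfsg.Out T) = 1 := Subsingleton.elim _ _
  obtain ⟨g, hg⟩ := (QuotientGroup.eq_one_iff _).1 h1
  refine ⟨g, fun x => ?_⟩
  have := congrArg (fun f : MulAut T => f x) hg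
  exact this.symm

/-- an element of order `v` whose centralizer order is divisible by another prime -/
theorem not_SC_of_cent [Finite T] {v w : ℕ} (hv : v.Prime) (hw : w.Prime) (hvw : v ≠ w) {x : T} (hx : orderOf x = v)
    (hd : w ∣ Nat.card (centralizer ({x} : Set T))) : ¬ SC T v := by
  have := Fact.mk hw
  obtain ⟨y, hy⟩ := exists_prime_orderOf_dvd_card' w hd
  rw [← Subgroup.orderOf_coe] at hy
  exact not_SC_of_commute hv hw hvw hx hy (mem_centralizer_singleton_iff.1 y.2).symm

/-- the same, with the other prime -/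
theorem not_SC_of_cent' [Finite T] {v w : ℕ} (hv : v.Prime) (hw : w.Prime) (hvw : v ≠ w) {x : T} (hx : orderOf x = w)
    (hd : v ∣ Nat.card (centralizer ({x} : Set T))) : ¬ SC T v := by
  have := Fact.mk hv
  obtain ⟨y, hy⟩ := exists_prime_orderOf_dvd_card' v hd
  rw [← Subgroup.orderOf_coe] at hy
  exact not_SC_of_commute hv hw hvw hy hx (mem_centralizer_singleton_iff.1 y.2)

/-- an element whose order is a proper multiple of `v` -/
theorem not_SC_of_mul [Finite T] {v n : ℕ} (hv : v.Prime) {y : T} (hy : orderOf y = n) (hd : v ∣ n) (hne : n ≠ v) :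
    ¬ SC T v := not_SC_of_orderOf hv (by rw [hy]; exact hd) (by rw [hy]; exact hne)

/-- a self-centralising element -/
theorem not_SC_of_self [Finite T] {v : ℕ} (hv : v.Prime) (h2 : ¬ v ^ 2 ∣ Nat.card T) (hne : Nat.card T ≠ v)
    (hO : Nat.card (Cfsg.Out T) = 1) {x : T} (hx : orderOf x = v)
    (hC : Nat.card (centralizer ({x} : Set T)) = v) (hlt : (Nat.card T / v) % v < v - 1) : ¬ SC T v := by
  obtain ⟨h1, -⟩ := card_norm_mod hv h2 hne hC
  refine not_SC_of_lt hv hx hC (n := (Nat.card T / v) % v) (o := 1) ?_ hO.le (by omega)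
  rw [h1, mul_comm]

/-- two missing classes of elements of orders `a` and `b` -/
theorem two_of_orders {M : Subgroup T} {a b : ℕ} (hab : a ≠ b) (hx : ∃ x : T, orderOf x = a) (hy : ∃ x : T, orderOf x = b)
    (ha : ∀ m : M, orderOf m ≠ a) (hb : ∀ m : M, orderOf m ≠ b) : Two T M := by
  obtain ⟨x, hx⟩ := hx
  obtain ⟨y, hy⟩ := hy
  refine Two.of_orders hab hx hy (fun m hm h => ha ⟨m, hm⟩ ?_) (fun m hm h => hb ⟨m, hm⟩ ?_)
  · rw [Subgroup.orderOf_mk, h]
  · rw [Subgroup.orderOf_mk, h]

end

variable {T : Type u} [Group T] [Finite T]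

/-- A proper subgroup of order divisible by `r`. -/
structure SitB (T : Type u) [Group T] (n : ℕ) (l : List (ℕ × ℕ)) (r : ℕ) (R : Subgroup T) : Prop where
  tab : OrderTable.{u}
  known : Known.{u}
  card : Nat.card T = n
  valid : valid l n = true
  prime : r.Prime
  dvdR : r ∣ Nat.card R
  sq : ¬ r ^ 2 ∣ n
  ne : R ≠ ⊤

namespace SitB

variable {n : ℕ} {l : List (ℕ × ℕ)} {r : ℕ} {R : Subgroup T}

omit [Finite T] in
theorem dvd_n (S : SitB T n l r R) : Nat.card R ∣ n := by
  rw [← S.card]
  exact Subgroup.card_subgroup_dvd_card R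

omit [Finite T] in
theorem sqR (S : SitB T n l r R) : ¬ r ^ 2 ∣ Nat.card R := fun h => S.sq (h.trans S.dvd_n)

theorem card_lt (S : SitB T n l r R) : Nat.card R < n := by
  rw [← S.card]
  refine lt_of_le_of_ne (Nat.le_of_dvd Nat.card_pos (Subgroup.card_subgroup_dvd_card R)) fun h => S.ne ?_
  exact Subgroup.eq_top_of_card_eq R h

theorem exists_top (S : SitB T n l r R) :
    ∃ (O : Subgroup R) (_ : O.Normal) (N : Subgroup (R ⧸ O)), Top R r O N :=
  Cfsg.Agent.H257.El.exists_top S.prime S.dvdR S.sqR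

variable {O : Subgroup R} [O.Normal] {N : Subgroup (R ⧸ O)}

/-- the primes not adjacent to `r` do not divide the order of the core -/
theorem not_dvd_core (S : SitB T n l r R) (h : Top R r O N) {s : ℕ} (hs : s.Prime) (hrs : r ≠ s)
    (hno : ∀ z : T, orderOf z ≠ r * s) (hok : okPow l r s = true) : ¬ s ∣ Nat.card O :=
  h.not_dvd_core hs hrs (SitA.noR hno) fun _ hb hd => okPow_spec S.valid hok hs hb (hd.trans S.dvd_n)

/-- the primes not adjacent to `r` divide the order of the simple group at the top -/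
theorem dvd_simple (S : SitB T n l r R) (h : Top R r O N) {s : ℕ} (hs : s.Prime)
    (hno : ∀ z : T, orderOf z ≠ r * s) (hok : okPair n l r s = true) (hsR : s ∣ Nat.card R) : s ∣ Nat.card N := by
  unfold okPair at hok
  rw [Bool.and_eq_true, Bool.and_eq_true, Bool.and_eq_true] at hok
  obtain ⟨⟨⟨h1, h2⟩, h3⟩, h4⟩ := hok
  have h1' : r ≠ s := by simpa using h1
  have h2' : ¬ s ∣ r - 1 := by
    intro hd
    rw [Nat.mod_eq_zero_of_dvd hd] at h2
    exact absurd h2 (by decide)
  exact h.dvd_simple hs h1' (SitA.noR hno) (fun _ hb hd => okPow_spec S.valid h4 hs hb (hd.trans S.dvd_n)) h2' hsR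

/-- a non-commutative `N` is in the list -/
theorem exists_surv (S : SitB T n l r R) (h : Top R r O N) (hna : ¬ ∀ a b : N, a * b = b * a) (ss : List ℕ)
    (hss : ∀ s ∈ ss, s ∣ Nat.card N) : ∃ g ∈ surv n l r ss, Real g N ∧ Nat.card N = ordN g := by
  have hsim := h.simple
  have hNR : Nat.card N ∣ Nat.card R := by
    refine (Subgroup.card_subgroup_dvd_card N).trans ?_
    rw [← card_quot_mul O]
    exact dvd_mul_right _ _
  have hNn : Nat.card N ∣ n := hNR.trans S.dvd_n
  obtain ⟨g, hg, hr, hc⟩ := exists_good S.tab (S.known N) hna S.valid hNn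
  refine ⟨g, List.mem_filter.2 ⟨hg, ?_⟩, hr, hc⟩
  unfold okG
  rw [Bool.and_eq_true, Bool.and_eq_true, List.all_eq_true]
  refine ⟨⟨?_, ?_⟩, fun s hs => ?_⟩
  · rw [← hc, Nat.mod_eq_zero_of_dvd h.dvd]; rfl
  · rw [← hc]
    have h1 : Nat.card N ≤ Nat.card R := Nat.le_of_dvd Nat.card_pos hNR
    have h2 := S.card_lt
    have h3 : Nat.card N ≠ n := by omega
    simpa using h3
  · rw [← hc, Nat.mod_eq_zero_of_dvd (hss s hs)]; rfl

/-- **the name of the simple group at the top if another prime `s`, not adjacent to `r`, divides `|R|`** -/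
theorem exists_name (S : SitB T n l r R) {s : ℕ} (hs : s.Prime) (hrs : r ≠ s)
    (hno : ∀ z : T, orderOf z ≠ r * s) (hok : okPair n l r s = true) (hsR : s ∣ Nat.card R) :
    ∃ (O : Subgroup R) (_ : O.Normal) (N : Subgroup (R ⧸ O)), Top R r O N ∧
      ∃ g ∈ surv n l r [s], Real g N ∧ Nat.card N = ordN g := by
  obtain ⟨O, hO, N, h⟩ := S.exists_top
  have h1 := S.dvd_simple h hs hno hok hsR
  refine ⟨O, hO, N, h, S.exists_surv h (SitA.not_comm_of_dvd h hs hrs h1) [s] ?_⟩
  intro t ht
  rw [List.mem_singleton] at ht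
  rw [ht]
  exact h1

end SitB

/-- the core is trivial if every prime divisor of its order is excluded -/
theorem eq_bot_of_not_dvd {R : Type*} [Group R] [Finite R] {O : Subgroup R} (h : ∀ s : ℕ, s.Prime → ¬ s ∣ Nat.card O) :
    O = ⊥ := by
  apply Subgroup.eq_bot_of_card_eq
  by_contra h1
  obtain ⟨s, hs, hd⟩ := Nat.exists_prime_and_dvd h1
  exact h s hs hd

/-- elements of order `k` prime to the index of `N` and to `|O|` give elements of order `k` of `N` -/
theorem exists_of_top {R : Type*} [Group R] [Finite R] {O : Subgroup R} [O.Normal] {N : Subgroup (R ⧸ O)}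
    [hN : N.Normal] {k : ℕ} (hk : Nat.Coprime k (Nat.card O)) (hi : Nat.Coprime k N.index) {z : R} (hz : orderOf z = k) :
    ∃ y : N, orderOf y = k := by
  have h1 : orderOf (QuotientGroup.mk' O z) = k := by
    apply Nat.dvd_antisymm
    · rw [← hz]; exact orderOf_map_dvd _ _
    · have h2 : z ^ orderOf (QuotientGroup.mk' O z) ∈ O := by
        have h3 : QuotientGroup.mk' O (z ^ orderOf (QuotientGroup.mk' O z)) = 1 := by
          rw [map_pow, pow_orderOf_eq_one]
        exact (QuotientGroup.eq_one_iff _).1 h3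
      have h3 : z ^ (orderOf (QuotientGroup.mk' O z) * Nat.card O) = 1 := by
        rw [pow_mul]
        have h4 : (⟨_, h2⟩ : O) ^ Nat.card O = 1 := pow_card_eq_one'
        exact congrArg Subtype.val h4
      have h4 := orderOf_dvd_of_pow_eq_one h3
      rw [hz] at h4
      exact hk.dvd_of_dvd_mul_right h4
  have h2 : QuotientGroup.mk' O z ∈ N := by
    have h3 : orderOf (QuotientGroup.mk' N (QuotientGroup.mk' O z)) = 1 := by
      have h4 : orderOf (QuotientGroup.mk' N (QuotientGroup.mk' O z)) ∣ k := by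
        rw [← h1]; exact orderOf_map_dvd _ _
      have h5 : orderOf (QuotientGroup.mk' N (QuotientGroup.mk' O z)) ∣ N.index := orderOf_dvd_natCard _
      exact Nat.eq_one_of_dvd_coprimes hi h4 h5
    exact (QuotientGroup.eq_one_iff _).1 (orderOf_eq_one_iff.1 h3)
  exact ⟨⟨_, h2⟩, by rw [Subgroup.orderOf_mk, h1]⟩

end Cfsg.Agent.H870.Der
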