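import Cfsg.Agent.H870.Der.Tool2
import Cfsg.Agent.H257.El.SC

/-!
# S3500, S3502: tools for the rows with three classes (helper870)
-/

set_option autoImplicit false

namespace Cfsg.Agent.H870.Der

open Subgroup Cfsg.Agent.H439.Der Cfsg.Agent.H257.El Cfsg.Agent.OrdDiv

universe u

variable {T : Type u} [Group T] [Finite T] {n : ℕ} {l : List (ℕ × ℕ)} {r : ℕ} {R : Subgroup T}

/-- no simple group of order divisible by `r` and `s`: then `s` does not divide `|R|` -/
theorem SitB.not_dvd (S : SitB T n l r R) {s : ℕ} (hs : s.Prime) (hrs : r ≠ s)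
    (hno : ∀ z : T, orderOf z ≠ r * s) (hok : okPair n l r s = true) (h0 : surv n l r [s] = []) :
    ¬ s ∣ Nat.card R := by
  intro hd
  obtain ⟨O, hO, N, -, g, hg, -⟩ := S.exists_name hs hrs hno hok hd
  rw [h0] at hg
  exact absurd hg (List.not_mem_nil)

/-- the boolean for `not_dvd_of_pair` -/
def okPr (n : ℕ) (l : List (ℕ × ℕ)) (r s : ℕ) : Bool :=
  valid l n && (n % r ^ 2 != 0) && (r != s) && okPair n l r s && (surv n l r [s]).isEmpty

/-- **two primes which do not both divide the order of a proper subgroup** -/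
theorem not_dvd_of_pair (tab : OrderTable.{u}) (known : Known.{u}) (hc : Nat.card T = n) {s : ℕ} (hr : r.Prime)
    (hs : s.Prime) (hno : ∀ z : T, orderOf z ≠ r * s) (hok : okPr n l r s = true) (hR : R ≠ ⊤)
    (hd : r ∣ Nat.card R) : ¬ s ∣ Nat.card R := by
  unfold okPr at hok
  simp only [Bool.and_eq_true] at hok
  obtain ⟨⟨⟨⟨h1, h2⟩, h3⟩, h4⟩, h5⟩ := hok
  have h2' : ¬ r ^ 2 ∣ n := by
    intro h
    rw [Nat.mod_eq_zero_of_dvd h] at h2
    exact absurd h2 (by decide)
  exact SitB.not_dvd (⟨tab, known, hc, h1, hr, hd, h2', hR⟩ : SitB T n l r R) hs (by simpa using h3) hno h4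
    (List.isEmpty_iff.1 h5)

/-- `SC` does not hold, numerically -/
theorem not_SC_chk {v o : ℕ} (hv : v.Prime) (hn : Nat.card T = n) (hO : Nat.card (Cfsg.Out T) = o)
    (h : chkSC n v o = true) : ¬ SC T v := not_SC_of_chk hv hn hO.le h

end Cfsg.Agent.H870.Der
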